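import Cfsg.Agent.Lib.AltFusion.Main

/-!
Sylow subgroups of alternating groups are abelian exactly below degree `p ^ 2`.
-/
set_option autoImplicit false

namespace CfsgLib.AltFusion

open Equiv CfsgLib.Fusion

theorem sylow_alt_abelian_iff (n p : ℕ) (hn : 6 ≤ n) [Fact p.Prime] (S : Sylow p (alternatingGroup (Fin n))) :
    IsMulCommutative S ↔ n < p ^ 2 := by
  classical
  have hp := (Fact.out : p.Prime)
  have hsum : n / p * p + n % p = n := Nat.div_add_mod' n p
  obtain ⟨e₀⟩ : Nonempty (PtsP p (n / p) (n % p) ≃ Fin n) :=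
    ⟨Fintype.equivOfCardEq (by simp [ZMod.card]; exact hsum)⟩
  constructor
  · intro hc
    by_contra hnot
    push Not at hnot
    have comm : ∀ x y : alternatingGroup (Fin n), ∀ g : alternatingGroup (Fin n),
        g * x * g⁻¹ ∈ (S : Subgroup (alternatingGroup (Fin n))) →
        g * y * g⁻¹ ∈ (S : Subgroup (alternatingGroup (Fin n))) → x * y = y * x := by
      intro x y g hx hy
      have h1 : (⟨_, hx⟩ : (S : Subgroup (alternatingGroup (Fin n)))) * ⟨_, hy⟩ = ⟨_, hy⟩ * ⟨_, hx⟩ :=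
        mul_comm' _ _
      have h2 : (g * x * g⁻¹) * (g * y * g⁻¹) = (g * y * g⁻¹) * (g * x * g⁻¹) := congrArg Subtype.val h1
      rw [show g * x * g⁻¹ * (g * y * g⁻¹) = g * (x * y) * g⁻¹ by group,
        show g * y * g⁻¹ * (g * x * g⁻¹) = g * (y * x) * g⁻¹ by group] at h2
      exact mul_left_cancel (mul_right_cancel h2)
    by_cases h2 : p = 2
    · subst h2
      let i₀ : Fin (n / 2) := ⟨0, by omega⟩
      let i₁ : Fin (n / 2) := ⟨1, by omega⟩
      let i₂ : Fin (n / 2) := ⟨2, by omega⟩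
      have h01 : i₀ ≠ i₁ := by simp [i₀, i₁, Fin.ext_iff]
      have h02 : i₀ ≠ i₂ := by simp [i₀, i₂, Fin.ext_iff]
      have h12 : i₁ ≠ i₂ := by simp [i₁, i₂, Fin.ext_iff]
      have hz : mon e₀ (Equiv.swap i₀ i₁) 1 ∈ alternatingGroup (Fin n) := by
        refine Perm.mem_alternatingGroup.2 ?_
        rw [sign_mon, pow_two, Int.units_mul_self]
        simp
      let P : Subgroup (Perm (Fin n)) := Subgroup.zpowers (mon e₀ (Equiv.swap i₀ i₁) 1) ⊔ trGroup e₀
      have hzz : mon e₀ (Equiv.swap i₀ i₁) 1 * mon e₀ (Equiv.swap i₀ i₁) 1 = 1 := by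
        rw [mon_mul, Equiv.swap_mul_self]
        simp only [Pi.one_apply, one_mul]
        exact mon_one e₀
      have hP : IsPGroup 2 P := by
        refine IsPGroup.to_sup_of_normal_right' ?_ ?_ ?_
        · rintro ⟨_, i, rfl⟩
          refine ⟨1, Subtype.ext ?_⟩
          show (mon e₀ (Equiv.swap i₀ i₁) 1 ^ i) ^ (2 ^ 1) = 1
          rw [pow_one, ← zpow_natCast, ← zpow_mul, mul_comm, zpow_mul, zpow_natCast, pow_two, hzz, one_zpow]
        · rintro ⟨σ, hσ⟩
          obtain ⟨f, rfl⟩ := mem_trGroup.1 hσ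
          exact ⟨1, Subtype.ext (by rw [pow_one]; exact tr_pow_p e₀ f)⟩
        · rw [Subgroup.zpowers_le]
          exact mon_mem_normalizer e₀ _ _
      obtain ⟨g, hg⟩ := exists_conj_le_sylow S (hP.comap_subtype (K := alternatingGroup (Fin n)))
      have h := comm ⟨_, hz⟩ ⟨_, Perm.mem_alternatingGroup.2 (sign_tr_pair e₀ i₀ i₂ 1)⟩ g
        (hg ⟨_, hz⟩ (show mon e₀ _ 1 ∈ P from Subgroup.mem_sup_left (Subgroup.mem_zpowers _)))
        (hg ⟨_, Perm.mem_alternatingGroup.2 (sign_tr_pair e₀ i₀ i₂ 1)⟩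
          (show tr e₀ _ ∈ P from Subgroup.mem_sup_right (tr_mem _ _)))
      have h3 := congrArg (fun σ : alternatingGroup (Fin n) => (σ : Perm (Fin n)) (e₀ (.inl ⟨i₀, 0⟩))) h
      simp [tr_inl, mon_inl, h01, h02, h01.symm, h12] at h3
    · have hpa : p ≤ n / p := by rw [Nat.le_div_iff_mul_le hp.pos, ← pow_two]; exact hnot
      obtain ⟨bl⟩ : Nonempty (Fin (n / p) ≃ ZMod p ⊕ Fin (n / p - p)) :=
        ⟨Fintype.equivOfCardEq (by simp [ZMod.card]; omega)⟩
      obtain ⟨g, hg⟩ := exists_conj_le_sylow S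
        ((planeP_isPGroup e₀ bl).comap_subtype (K := alternatingGroup (Fin n)))
      let u : ∀ o : Option (Fin (n / p - p)), PlG p o := Pi.single none (![0, 1] : Fin 2 → ZMod p)
      let i : Fin (n / p) := bl.symm (.inl 0)
      have hu : tr (planeLabel e₀ bl) (.ofAdd u) ∈ planeP e₀ bl := Subgroup.mem_sup_left (tr_mem _ u)
      have hd : tr e₀ (.ofAdd (Pi.single i 1)) ∈ planeP e₀ bl := Subgroup.mem_sup_right (tr_mem _ _)
      have h := comm ⟨_, planeP_le_alternating h2 e₀ bl hu⟩ ⟨_, planeP_le_alternating h2 e₀ bl hd⟩ g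
        (hg ⟨_, planeP_le_alternating h2 e₀ bl hu⟩ hu) (hg ⟨_, planeP_le_alternating h2 e₀ bl hd⟩ hd)
      have h3 := congrArg (fun σ : alternatingGroup (Fin n) => (σ : Perm (Fin n))
        (planeLabel e₀ bl (.inl ⟨none, (![0, 0] : Fin 2 → ZMod p)⟩))) h
      simp only [Subgroup.coe_mul, Perm.mul_apply] at h3
      rw [tr_inl (G := PlG p) (planeLabel e₀ bl) u none] at h3
      rw [planeLabel_none, planeLabel_none, tr_inl, tr_inl] at h3
      rw [show e₀ (Sum.inl ⟨bl.symm (Sum.inl ((![0, 0] : Fin 2 → ZMod p) 1)),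
          (![0, 0] : Fin 2 → ZMod p) 0 + (Pi.single i 1 : Fin (n / p) → ZMod p)
            (bl.symm (Sum.inl ((![0, 0] : Fin 2 → ZMod p) 1)))⟩) =
          planeLabel e₀ bl (.inl ⟨none, (![1, 0] : Fin 2 → ZMod p)⟩) by simp [planeLabel_none, i],
        tr_inl (G := PlG p) (planeLabel e₀ bl) u none, planeLabel_none] at h3
      simp [u, i] at h3
  · intro hlt
    have h2 : p ≠ 2 := by rintro rfl; simp at hlt; omega
    have hA : trGroup e₀ ≤ alternatingGroup (Fin n) := trGroup_le_alternating h2 e₀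
    have hcard : Nat.card (trA e₀) = p ^ (n / p) := by
      rw [trA, Nat.card_congr (Subgroup.subgroupOfEquivOfLe hA).toEquiv, trGroup,
        ← Nat.card_congr ((tr e₀).ofInjective (tr_injective e₀)).toEquiv,
        Nat.card_congr Multiplicative.toAdd, Nat.card_pi]
      simp
    have hS : Nat.card (S : Subgroup (alternatingGroup (Fin n))) = p ^ (n / p) := by
      have : Nontrivial (Fin n) := Fin.nontrivial_iff_two_le.2 (by omega)
      rw [Sylow.card_eq_multiplicity]
      congr 1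
      have h1 : (2 * Nat.card (alternatingGroup (Fin n))).factorization p = n.factorial.factorization p := by
        rw [two_mul_nat_card_alternatingGroup, Nat.card_perm, Nat.card_fin]
      rw [Nat.factorization_mul (by norm_num) Nat.card_pos.ne', Finsupp.add_apply,
        Nat.factorization_eq_zero_of_not_dvd
          (fun hd => h2 ((Nat.prime_dvd_prime_iff_eq hp Nat.prime_two).1 hd)), zero_add] at h1
      rw [h1, Nat.factorization_def _ hp,
        padicValNat_factorial (b := 2) (Nat.log_lt_of_lt_pow (by omega) hlt)]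
      simp
    have hEp : IsPGroup p (trA e₀) := IsPGroup.of_card hcard
    obtain ⟨g, hg⟩ := exists_conj_le_sylow S hEp
    have heq : (trA e₀).map (MulAut.conj g).toMonoidHom = (S : Subgroup (alternatingGroup (Fin n))) :=
      Subgroup.eq_of_le_of_card_ge (by rintro _ ⟨x, hx, rfl⟩; exact hg x hx)
        (by rw [card_map_conj, hcard, hS])
    refine ⟨⟨fun x y => Subtype.ext ?_⟩⟩
    obtain ⟨a, ha, hax⟩ := heq.ge x.2
    obtain ⟨b, hb, hby⟩ := heq.ge y.2
    show (x : alternatingGroup (Fin n)) * y = y * x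
    rw [← hax, ← hby, ← map_mul, ← map_mul]
    congr 1
    obtain ⟨f, hf⟩ := mem_trGroup.1 (Subgroup.mem_subgroupOf.1 ha)
    obtain ⟨f', hf'⟩ := mem_trGroup.1 (Subgroup.mem_subgroupOf.1 hb)
    refine Subtype.ext ?_
    rw [Subgroup.coe_mul, Subgroup.coe_mul, hf, hf']
    exact tr_comm e₀ f f'

end CfsgLib.AltFusion
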