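import Mathlib

/-!
Elements of prime power order in symmetric and alternating groups: conjugacy of elements of prime order,
inverting involutions of either parity, factorization into an element of order `p` and one of smaller order.
-/
set_option autoImplicit false

namespace CfsgLib.AltFusion

open Equiv Equiv.Perm

variable {α : Type*} [Fintype α] [DecidableEq α] {p : ℕ} [Fact p.Prime]

theorem isConj_of_card_support {x y : Perm α} (hx : x ^ p = 1) (hy : y ^ p = 1)
    (h : x.support.card = y.support.card) : IsConj x y := by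
  rw [isConj_iff_cycleType_eq]
  have hp := (Fact.out : p.Prime)
  have key : ∀ z : Perm α, z ^ p = 1 → z.cycleType = Multiset.replicate (z.support.card / p) p := by
    intro z hz
    rw [← sum_cycleType, cycleType_of_pow_prime_eq_one hz, Multiset.sum_replicate, smul_eq_mul,
      Nat.mul_div_cancel _ hp.pos]
  rw [key x hx, key y hy, h]

/-- Conjugacy by an even permutation. -/
theorem exists_even_conj {x y c : Perm α} (h : IsConj x y) (hc : sign c = -1) (hcy : Commute c y) :
    ∃ g : Perm α, sign g = 1 ∧ g * x * g⁻¹ = y := by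
  obtain ⟨g, hg⟩ := isConj_iff.1 h
  rcases Int.units_eq_one_or (sign g) with hs | hs
  · exact ⟨g, hs, hg⟩
  refine ⟨c * g, by rw [map_mul, hc, hs]; rfl, ?_⟩
  rw [show c * g * x * (c * g)⁻¹ = c * (g * x * g⁻¹) * c⁻¹ by group, hg, hcy.eq, mul_inv_cancel_right]

theorem exists_reflection (x : Perm α) :
    ∃ a : Perm α, a * a = 1 ∧ a * x * a⁻¹ = x⁻¹ ∧ ∀ y, SameCycle x y (a y) := by
  classical
  let b : α → α := fun y => (Quotient.mk (SameCycle.setoid x) y).out
  have hb : ∀ y, SameCycle x (b y) y := fun y => Quotient.mk_out (s := SameCycle.setoid x) y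
  have hbc : ∀ y z, SameCycle x y z → b y = b z := fun y z h =>
    congrArg Quotient.out (Quotient.sound (s := SameCycle.setoid x) h)
  choose k hk using hb
  have hval : ∀ y (i : ℤ), (x ^ i) (b y) = y → (x ^ (-i)) (b y) = (x ^ (-(k y))) (b y) := by
    intro y i hi
    have h2 : (x ^ (i - k y)) (b y) = b y := by
      have h3 : ∀ z (j : ℤ), (x ^ j) (b y) = z → (x ^ (-j)) z = b y := fun z j hz => by
        rw [← hz, ← Perm.mul_apply, ← zpow_add, neg_add_cancel, zpow_zero, Perm.one_apply]
      rw [sub_eq_neg_add, zpow_add, Perm.mul_apply, hi]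
      exact h3 y (k y) (hk y)
    conv_lhs => rw [← h2]
    rw [← Perm.mul_apply, ← zpow_add, show -i + (i - k y) = -(k y) by ring]
  let f : α → α := fun y => (x ^ (-(k y))) (b y)
  have hbf : ∀ y, b (f y) = b y := fun y => hbc _ _ <|
    (SameCycle.symm (⟨-(k y), rfl⟩ : SameCycle x (b y) (f y))).trans ⟨k y, hk y⟩
  have hff : Function.Involutive f := by
    intro y
    have h1 := hval (f y) (-(k y)) (by rw [hbf])
    rw [neg_neg, hbf, hk y] at h1
    show (x ^ (-(k (f y)))) (b (f y)) = y
    rw [hbf]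
    exact h1.symm
  refine ⟨hff.toPerm, Equiv.ext fun y => hff y, ?_, fun y => ?_⟩
  · rw [mul_inv_eq_iff_eq_mul]
    refine Equiv.ext fun y => ?_
    show f (x y) = x⁻¹ (f y)
    have hbx : b (x y) = b y := hbc _ _ (sameCycle_apply_left.2 (SameCycle.refl x y))
    have h1 := hval (x y) (k y + 1) (by
      rw [hbx, add_comm, zpow_add, zpow_one, Perm.mul_apply, hk])
    show (x ^ (-(k (x y)))) (b (x y)) = _
    rw [← h1, hbx, show -(k y + 1) = (-1 : ℤ) + -(k y) by ring, zpow_add, zpow_neg_one, Perm.mul_apply]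
  · exact SameCycle.trans (SameCycle.symm (⟨k y, hk y⟩ : SameCycle x (b y) y)) ⟨-(k y), rfl⟩

/-- A non-identity element of 2-power order is inverted by an even involution. -/
theorem exists_even_inverter {x : Perm α} (h2 : ∃ n : ℕ, orderOf x = 2 ^ n) (hx : x ≠ 1) :
    ∃ a : Perm α, sign a = 1 ∧ a * a = 1 ∧ a * x * a⁻¹ = x⁻¹ := by
  obtain ⟨a, ha, hax, hsc⟩ := exists_reflection x
  rcases Int.units_eq_one_or (sign a) with hs | hs
  · exact ⟨a, hs, ha, hax⟩
  obtain ⟨y, hy⟩ : ∃ y, x y ≠ y := by
    by_contra h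
    push Not at h
    exact hx (Equiv.ext h)
  set c := x.cycleOf y with hc
  have hcyc : c.IsCycle := isCycle_cycleOf x hy
  have hca : a * c * a⁻¹ = c⁻¹ := by
    refine Equiv.ext fun z => ?_
    have hpow : ∀ (i : ℤ), a * x ^ i * a⁻¹ = x ^ (-i) := fun i => by
      rw [← conj_zpow, hax, inv_zpow, zpow_neg]
    rw [hc, cycleOf_inv]
    show a (x.cycleOf y (a⁻¹ z)) = x⁻¹.cycleOf y z
    have hiff : SameCycle x y (a⁻¹ z) ↔ SameCycle x⁻¹ y z := by
      rw [sameCycle_inv]
      have h3 : SameCycle x (a⁻¹ z) z := by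
        have := hsc (a⁻¹ z)
        rwa [show a (a⁻¹ z) = z from a.apply_symm_apply z] at this
      exact ⟨fun h => h.trans h3, fun h => h.trans h3.symm⟩
    rw [cycleOf_apply, cycleOf_apply]
    by_cases h : SameCycle x y (a⁻¹ z)
    · rw [if_pos h, if_pos (hiff.1 h), ← hax]
      rfl
    · rw [if_neg h, if_neg (mt hiff.2 h)]
      exact a.apply_symm_apply z
  refine ⟨a * c, ?_, ?_, ?_⟩
  · rw [map_mul, hs, hcyc.sign]
    obtain ⟨n, hn⟩ := h2
    have h2c : orderOf c ∣ 2 ^ n := by
      rw [hcyc.orderOf, ← hn, ← lcm_cycleType]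
      refine Multiset.dvd_lcm ?_
      rw [cycleType_def, Multiset.mem_map]
      exact ⟨c, cycleOf_mem_cycleFactorsFinset_iff.2 (mem_support.2 hy), rfl⟩
    rw [hcyc.orderOf] at h2c
    obtain ⟨m, -, hm⟩ := (Nat.dvd_prime_pow Nat.prime_two).1 h2c
    have : m ≠ 0 := fun h => by
      have h4 := hcyc.two_le_card_support
      rw [hm, h] at h4
      omega
    rw [hm, Even.neg_one_pow (Nat.even_pow.2 ⟨even_two, this⟩)]
    decide
  · rw [← eq_inv_iff_mul_eq_one, mul_inv_rev]
    have := hca
    rw [mul_inv_eq_iff_eq_mul] at this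
    rw [this, inv_eq_of_mul_eq_one_right ha]
  · have hcx : Commute c x := by
      refine Equiv.ext fun z => ?_
      simp only [Perm.mul_apply, hc, cycleOf_apply, sameCycle_apply_right]
      split_ifs <;> rfl
    rw [show a * c * x * (a * c)⁻¹ = a * (c * x * c⁻¹) * a⁻¹ by group, hcx.eq, mul_inv_cancel_right, hax]

/-- An element of order a proper power of `p` is, inside a `p`-group, a product of an element of order
dividing `p` and one of smaller order. -/
theorem exists_split {x : Perm α} (hxp : ∃ n : ℕ, orderOf x = p ^ n) (hy1 : x ^ p ≠ 1) :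
    ∃ u d : Perm α, ∃ P : Subgroup (Perm α), IsPGroup p P ∧ u ∈ P ∧ d ∈ P ∧ x = u * d ∧ u ^ p = 1 ∧
      orderOf d < orderOf x := by
  classical
  obtain ⟨n, hn⟩ := hxp
  have hp := (Fact.out : p.Prime)
  set y := x ^ p with hy
  let b : α → α := fun z => (Quotient.mk (SameCycle.setoid x) z).out
  have hb : ∀ z, SameCycle x (b z) z := fun z => Quotient.mk_out (s := SameCycle.setoid x) z
  have hbc : ∀ z w, SameCycle x z w → b z = b w := fun z w h =>
    congrArg Quotient.out (Quotient.sound (s := SameCycle.setoid x) h)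
  choose k hk using hb
  let c : α → ZMod p := fun z => (k z : ZMod p)
  have hyx : Commute y x := (Commute.refl x).pow_left p
  have hysupp : ∀ (i : ℤ) z, y ((x ^ i) z) = (x ^ i) z ↔ y z = z := fun i z => by
    rw [← Perm.mul_apply, (hyx.zpow_right i).eq, Perm.mul_apply]
    exact (x ^ i).injective.eq_iff
  have hdvd : ∀ w, y w ≠ w → ∀ i : ℤ, (x ^ i) w = w → (p : ℤ) ∣ i := by
    intro w hw i hi
    by_contra hnd
    obtain ⟨s, t, hst⟩ : IsCoprime i ((p : ℤ) ^ n) :=
      (((Nat.prime_iff_prime_int.1 hp).coprime_iff_not_dvd).2 hnd).symm.pow_right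
    have h1 : (x ^ (1 : ℤ)) w = w := by
      have hn' : x ^ ((p : ℤ) ^ n) = 1 := by
        rw [← Nat.cast_pow, zpow_natCast, ← hn, pow_orderOf_eq_one]
      rw [← hst, zpow_add, mul_comm t, zpow_mul x ((p : ℤ) ^ n), hn', one_zpow, mul_one, mul_comm s,
        zpow_mul]
      exact zpow_apply_eq_self_of_apply_eq_self hi s
    rw [zpow_one] at h1
    exact hw (pow_apply_eq_self_of_apply_eq_self h1 p)
  have hc : ∀ z, y z ≠ z → ∀ i : ℤ, c ((x ^ i) z) = c z + (i : ZMod p) := by
    intro z hz i
    have hbz : b ((x ^ i) z) = b z := hbc _ _ (SameCycle.symm ⟨i, rfl⟩)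
    have h1 : (x ^ (k ((x ^ i) z) - (i + k z))) (b z) = b z := by
      rw [sub_eq_neg_add, zpow_add, Perm.mul_apply]
      have h2 := hk ((x ^ i) z)
      rw [hbz] at h2
      rw [h2, ← Perm.mul_apply, ← zpow_add]
      conv_lhs =>
        arg 2
        rw [← hk z]
      rw [← Perm.mul_apply, ← zpow_add, show -(i + k z) + i + k z = 0 by ring, zpow_zero,
        Perm.one_apply]
    have hyb : y (b z) ≠ b z := fun h => hz (by rw [← hk z]; exact (hysupp _ _).2 h)
    have h3 := hdvd _ hyb _ h1
    rw [← ZMod.intCast_zmod_eq_zero_iff_dvd, Int.cast_sub, Int.cast_add, sub_eq_zero] at h3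
    show (k ((x ^ i) z) : ZMod p) = (k z : ZMod p) + i
    rw [h3, add_comm]
  have hypow : ∀ z, y z ≠ z → ∀ i : ℤ, y ((y ^ i) z) ≠ (y ^ i) z ∧ c ((y ^ i) z) = c z := by
    intro z hz i
    have he : y ^ i = x ^ ((p : ℤ) * i) := by rw [zpow_mul, zpow_natCast]
    rw [he]
    refine ⟨fun h => hz ((hysupp _ _).1 h), ?_⟩
    rw [hc z hz]
    simp
  have hfix : ∀ z, y z = z → ∀ i : ℤ, (y ^ i) z = z := fun z hz i =>
    zpow_apply_eq_self_of_apply_eq_self hz i
  let Mem : Perm α → (ZMod p → ℤ) → Prop := fun w f => ∀ z, w z = (y ^ f (c z)) z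
  have hmul : ∀ {w w' : Perm α} {f f' : ZMod p → ℤ}, Mem w f → Mem w' f' → Mem (w * w') (f + f') := by
    intro w w' f f' h h' z
    rw [Perm.mul_apply, h' z, Pi.add_apply, zpow_add, Perm.mul_apply]
    by_cases hz : y z = z
    · simp only [hfix z hz]
      rw [h z, hfix z hz]
    · rw [h, (hypow z hz _).2]
  let B : Subgroup (Perm α) :=
    { carrier := {w | ∃ f, Mem w f}
      one_mem' := ⟨0, fun z => by simp⟩
      mul_mem' := fun ⟨f, h⟩ ⟨f', h'⟩ => ⟨f + f', hmul h h'⟩
      inv_mem' := fun {w} ⟨f, h⟩ => ⟨-f, fun z => by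
        rw [inv_eq_iff_eq, h, Pi.neg_apply]
        by_cases hz : y z = z
        · simp only [hfix z hz]
        · rw [(hypow z hz _).2, ← Perm.mul_apply, ← zpow_add, add_neg_cancel, zpow_zero,
            Perm.one_apply]⟩ }
  have hpowMem : ∀ {w : Perm α} {f : ZMod p → ℤ}, Mem w f → ∀ m : ℕ, Mem (w ^ m) (m • f) := by
    intro w f h m
    induction m with
    | zero => intro z; simp
    | succ m ih => rw [pow_succ, succ_nsmul]; exact hmul ih h
  have hBord : ∀ {w : Perm α}, w ∈ B → w ^ orderOf y = 1 := by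
    rintro w ⟨f, h⟩
    refine Equiv.ext fun z => ?_
    rw [hpowMem h (orderOf y) z, Pi.smul_apply, nsmul_eq_mul, zpow_mul, zpow_natCast,
      pow_orderOf_eq_one, one_zpow]
  have hnd : n ≠ 0 := fun h0 => hy1 (by
    rw [h0, pow_zero, orderOf_eq_one_iff] at hn
    rw [hy, hn, one_pow])
  have hord : orderOf y = p ^ (n - 1) := by
    rw [hy, orderOf_pow' _ hp.ne_zero, hn, Nat.gcd_eq_right (dvd_pow_self p hnd)]
    exact Nat.div_eq_of_eq_mul_left hp.pos (by
      conv_lhs => rw [show n = (n - 1) + 1 by omega]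
      rw [pow_succ])
  have hBp : IsPGroup p B := fun w => ⟨n - 1, Subtype.ext (by
    rw [Subgroup.coe_pow, ← hord]; exact hBord w.2)⟩
  let d : Perm α :=
    { toFun := fun z => if c z = 0 then y z else z
      invFun := fun z => if c z = 0 then y⁻¹ z else z
      left_inv := fun z => by
        by_cases hz : y z = z
        · have hz' : y⁻¹ z = z := by rw [inv_eq_iff_eq]; exact hz.symm
          simp only [hz', hz, ite_self]
        · have h2 := (hypow z hz 1).2
          rw [zpow_one] at h2
          by_cases h : c z = 0 <;> simp [h, h2]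
      right_inv := fun z => by
        by_cases hz : y z = z
        · have hz' : y.symm z = z := by rw [Equiv.symm_apply_eq]; exact hz.symm
          simp only [Perm.inv_def]
          simp [hz', hz]
        · have h2 := (hypow z hz (-1)).2
          rw [zpow_neg_one, Perm.inv_def] at h2
          by_cases h : c z = 0 <;> simp [h, h2] }
  let δ : ZMod p → ℤ := fun t => if t = 0 then 1 else 0
  have hd : Mem d δ := fun z => by
    show (if c z = 0 then y z else z) = _
    simp only [δ]
    split_ifs <;> simp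
  have hdB : d ∈ B := ⟨δ, hd⟩
  have hxB : Subgroup.zpowers x ≤ Subgroup.normalizer (B : Set (Perm α)) := by
    rw [Subgroup.zpowers_le]
    have key : ∀ (i : ℤ) (w : Perm α), w ∈ B → x ^ i * w * (x ^ i)⁻¹ ∈ B := by
      rintro i w ⟨f, h⟩
      refine ⟨fun t => f (t - i), fun z => ?_⟩
      rw [Perm.mul_apply, Perm.mul_apply, h, ← Perm.mul_apply,
        ← ((hyx.zpow_left _).zpow_right i).eq, Perm.mul_apply,
        show (x ^ i) ((x ^ i)⁻¹ z) = z from (x ^ i).apply_symm_apply z]
      by_cases hz : y z = z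
      · rw [hfix z hz, hfix z hz]
      · simp only [← zpow_neg, hc z hz, Int.cast_neg, sub_eq_add_neg]
    refine Subgroup.mem_normalizer_iff.2 fun w => ⟨fun hw => ?_, fun hw => ?_⟩
    · have h1 := key 1 w hw
      rwa [zpow_one] at h1
    · have h1 := key (-1) _ hw
      simpa [mul_assoc] using h1
  have hxp' : IsPGroup p (Subgroup.zpowers x) :=
    IsPGroup.of_card (n := n) (by rw [Nat.card_zpowers, hn])
  have hP : IsPGroup p (Subgroup.zpowers x ⊔ B : Subgroup (Perm α)) :=
    IsPGroup.to_sup_of_normal_right' hxp' hBp hxB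
  refine ⟨x * d⁻¹, d, _, hP, Subgroup.mul_mem _ (Subgroup.mem_sup_left (Subgroup.mem_zpowers x))
    (Subgroup.inv_mem _ (Subgroup.mem_sup_right hdB)), Subgroup.mem_sup_right hdB, by group, ?_, ?_⟩
  · have hdi : Mem d⁻¹ (-δ) := fun z => by
      rw [inv_eq_iff_eq, hd, Pi.neg_apply]
      by_cases hz : y z = z
      · simp only [hfix z hz]
      · rw [(hypow z hz _).2, ← Perm.mul_apply, ← zpow_add, add_neg_cancel, zpow_zero, Perm.one_apply]
    have hu : ∀ m : ℕ, ∀ z, ((x * d⁻¹) ^ m) z =
        (x ^ (m : ℤ)) ((y ^ (-∑ j ∈ Finset.range m, δ (c z + (j : ℕ)))) z) := by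
      intro m
      induction m with
      | zero => intro z; simp
      | succ m ih =>
        intro z
        rw [pow_succ', Perm.mul_apply, ih, Perm.mul_apply, hdi]
        by_cases hz : y z = z
        · have hz' : y ((x ^ (m : ℤ)) z) = (x ^ (m : ℤ)) z := (hysupp _ _).2 hz
          rw [hfix z hz, hfix z hz, hfix _ hz', Nat.cast_succ, add_comm, zpow_add, zpow_one,
            Perm.mul_apply]
        · obtain ⟨h1, h2⟩ := hypow z hz (-∑ j ∈ Finset.range m, δ (c z + (j : ℕ)))
          rw [hc _ h1, h2, Finset.sum_range_succ, neg_add_rev, zpow_add, Perm.mul_apply, Nat.cast_succ,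
            add_comm (m : ℤ), zpow_add x, zpow_one, Perm.mul_apply, Int.cast_natCast, Pi.neg_apply]
          congr 1
          rw [← Perm.mul_apply, ((hyx.zpow_left _).zpow_right _).eq, Perm.mul_apply]
    refine Equiv.ext fun z => ?_
    rw [hu, Perm.one_apply]
    by_cases hz : y z = z
    · rw [hfix z hz, zpow_natCast, ← hy, hz]
    · have hsum : ∑ j ∈ Finset.range p, δ (c z + (j : ℕ)) = 1 := by
        simp only [δ]
        rw [Finset.sum_eq_single ((-c z).val)]
        · rw [ZMod.natCast_val, ZMod.cast_id]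
          simp
        · intro j hj hne
          rw [if_neg]
          intro h
          apply hne
          rw [← eq_neg_of_add_eq_zero_right h, ZMod.val_cast_of_lt (Finset.mem_range.1 hj)]
        · intro h
          exact absurd (Finset.mem_range.2 (ZMod.val_lt _)) h
      rw [hsum, zpow_neg_one, zpow_natCast, ← hy]
      exact y.apply_symm_apply z
  · refine lt_of_le_of_lt (orderOf_le_of_pow_eq_one (orderOf_pos y) (hBord hdB)) ?_
    rw [hord, hn]
    exact Nat.pow_lt_pow_right hp.one_lt (by omega)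

/-- Two elements of order `p` moving `p` points, in a common `p`-group and moving a common point, generate the
same subgroup. -/
theorem mem_zpowers_of_meet {Q : Subgroup (Perm α)} (hQ : IsPGroup p Q) {c e : Perm α} (hc : c ∈ Q)
    (he : e ∈ Q) (hcp : c ^ p = 1) (hep : e ^ p = 1) (hcs : c.support.card = p)
    (hes : e.support.card = p) {z : α} (hzc : z ∈ c.support) (hze : z ∈ e.support) :
    c ∈ Subgroup.zpowers e := by
  classical
  have hp := (Fact.out : p.Prime)
  have hcyc : ∀ w : Perm α, w ^ p = 1 → w.support.card = p → w.IsCycle := fun w hw hs => by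
    rw [← card_cycleType_eq_one, cycleType_of_pow_prime_eq_one hw, Multiset.card_replicate]
    have h1 := sum_cycleType w
    rw [cycleType_of_pow_prime_eq_one hw, Multiset.sum_replicate, hs, smul_eq_mul] at h1
    exact Nat.eq_of_mul_eq_mul_right hp.pos (h1.trans (one_mul p).symm)
  set U := c.support ∪ e.support with hU
  let Q' : Subgroup (Perm α) := Subgroup.closure {c, e}
  have hQ'Q : Q' ≤ Q := (Subgroup.closure_le Q).2 (by
    rintro w (rfl | rfl)
    exacts [hc, he])
  have hQ'p : IsPGroup p Q' := hQ.to_le hQ'Q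
  let R : Subgroup (Perm α) :=
    (ofSubtype : Perm {w // w ∈ U} →* Perm α).range
  have hR : ∀ w : Perm α, w.support ⊆ U → w ∈ R := fun w hw => by
    have h1 : ∀ a, w a ∈ U ↔ a ∈ U := fun a => by
      by_cases ha : w a = a
      · rw [ha]
      · exact ⟨fun _ => hw (mem_support.2 ha), fun _ => hw (apply_mem_support.2 (mem_support.2 ha))⟩
    exact ⟨w.subtypePerm h1, ofSubtype_subtypePerm h1 fun a ha => hw (mem_support.2 ha)⟩
  have hQ'R : Q' ≤ R := (Subgroup.closure_le R).2 (by
    rintro w (rfl | rfl)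
    exacts [hR _ Finset.subset_union_left, hR _ Finset.subset_union_right])
  have horb : MulAction.orbit Q' z = (U : Set α) := by
    refine Set.Subset.antisymm ?_ ?_
    · rintro _ ⟨⟨w, hw⟩, rfl⟩
      obtain ⟨π, rfl⟩ := hQ'R hw
      have : z ∈ U := Finset.mem_union_left _ hzc
      show ofSubtype π z ∈ U
      rw [show z = ((⟨z, this⟩ : {w // w ∈ U}) : α) from rfl, ofSubtype_apply_coe]
      exact (π _).2
    · intro a ha
      rcases Finset.mem_union.1 ha with ha | ha
      · obtain ⟨i, hi⟩ := (hcyc c hcp hcs).sameCycle (mem_support.1 hzc) (mem_support.1 ha)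
        exact ⟨⟨c ^ i, Q'.zpow_mem (Subgroup.subset_closure (Or.inl rfl)) i⟩, hi⟩
      · obtain ⟨i, hi⟩ := (hcyc e hep hes).sameCycle (mem_support.1 hze) (mem_support.1 ha)
        exact ⟨⟨e ^ i, Q'.zpow_mem (Subgroup.subset_closure (Or.inr rfl)) i⟩, hi⟩
  obtain ⟨m, hm⟩ := hQ'p.card_orbit z
  rw [horb, Nat.card_coe_set_eq, Set.ncard_coe_finset] at hm
  have hUp : U.card = p := by
    have h1 : p ≤ U.card := hcs ▸ Finset.card_le_card Finset.subset_union_left
    have h2 : U.card < p + p := by
      have h3 := Finset.card_union_add_card_inter c.support e.support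
      have h4 : 0 < (c.support ∩ e.support).card := Finset.card_pos.2 ⟨z, Finset.mem_inter.2 ⟨hzc, hze⟩⟩
      rw [← hU, hcs, hes] at h3
      omega
    rw [hm] at h1 h2 ⊢
    rcases Nat.lt_or_ge 1 m with hm1 | hm1
    · have h3 : p * p ≤ p ^ m := by
        rw [← pow_two]
        exact Nat.pow_le_pow_right hp.pos hm1
      have h4 := Nat.mul_le_mul_right p hp.two_le
      omega
    · have h3 : m = 1 := by
        rcases Nat.le_one_iff_eq_zero_or_eq_one.1 hm1 with rfl | rfl
        · simp at h1
          have := hp.two_le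
          omega
        · rfl
      rw [h3, pow_one]
  obtain ⟨k, hk⟩ := IsPGroup.iff_card.1 hQ'p
  have hdvd : Nat.card Q' ∣ p.factorial := by
    refine (Subgroup.card_dvd_of_le hQ'R).trans ?_
    refine (Subgroup.card_range_dvd _).trans ?_
    rw [Nat.card_perm, Nat.card_eq_fintype_card, Fintype.card_coe, hUp]
  have hk1 : k ≤ 1 := by
    by_contra h
    have h2 : p ^ 2 ∣ p.factorial := (pow_dvd_pow p (by omega)).trans (hk ▸ hdvd)
    rw [← Nat.mul_factorial_pred hp.ne_zero, pow_two] at h2
    have h3 := (hp.dvd_factorial).1 (Nat.dvd_of_mul_dvd_mul_left hp.pos h2)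
    have := hp.two_le
    omega
  have heQ : Subgroup.zpowers e ≤ Q' := Subgroup.zpowers_le.2 (Subgroup.subset_closure (Or.inr rfl))
  have hcard : Nat.card Q' ≤ Nat.card (Subgroup.zpowers e) := by
    rw [hk, Nat.card_zpowers, (hcyc e hep hes).orderOf, hes]
    exact (Nat.pow_le_pow_right hp.pos hk1).trans (pow_one p).le
  rw [Subgroup.eq_of_le_of_card_ge heQ hcard]
  exact Subgroup.subset_closure (Or.inl rfl)

end CfsgLib.AltFusion
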