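import Cfsg.Agent.Lib.AltFusion.Blocks
import Cfsg.Agent.Lib.AltFusion.PElements
import Cfsg.Agent.Lib.FusionQuot.GroupCriterion

/-!
The alternating group with a labelling of its points by blocks of size `p`: the translation subgroup is
self-centralizing, and a nontrivial strongly closed subgroup meets it.
-/
set_option autoImplicit false

namespace CfsgLib.AltFusion

open Equiv Cfsg Cfsg.FusionSystem CfsgLib.Fusion CfsgLib.FusionQuot

variable {α : Type*} [Fintype α] [DecidableEq α] {p a r : ℕ} [Fact p.Prime]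

/-- The even translations. -/
def trA (e : PtsP p a r ≃ α) : Subgroup (alternatingGroup α) := (trGroup e).subgroupOf (alternatingGroup α)

theorem tr_pow_p (e : PtsP p a r ≃ α) (f : Fin a → ZMod p) : tr e (.ofAdd f) ^ p = 1 := by
  rw [← map_pow, ← ofAdd_nsmul, ← map_one (tr e), ← ofAdd_zero]
  congr 2
  funext i
  simp

theorem tr_comm (e : PtsP p a r ≃ α) (f g : Fin a → ZMod p) :
    Commute (tr e (.ofAdd f)) (tr e (.ofAdd g)) := (Commute.all (Multiplicative.ofAdd f) (.ofAdd g)).map (tr e)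

theorem sign_tr_single_eq (e : PtsP p a r ≃ α) (i k : Fin a) (c : ZMod p) :
    Perm.sign (tr e (.ofAdd (Pi.single k c))) = Perm.sign (tr e (.ofAdd (Pi.single i c))) := by
  have h := mon_conj_tr e (Equiv.swap i k) 1 (Pi.single i c)
  rw [show (fun j => (((1 : Fin a → (ZMod p)ˣ) ((Equiv.swap i k).symm j) : (ZMod p)ˣ) : ZMod p) *
    (Pi.single i c : Fin a → ZMod p) ((Equiv.swap i k).symm j)) = Pi.single k c from funext fun j => by
      rcases eq_or_ne j k with rfl | hjk
      · simp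
      · have : Equiv.swap i k j ≠ i := fun h => hjk (by
          rw [← Equiv.swap_apply_self i k j, h, Equiv.swap_apply_left])
        simp [hjk, this]] at h
  rw [← h, map_mul, map_mul, map_inv, mul_comm (Perm.sign (mon e (Equiv.swap i k) 1)), mul_inv_cancel_right]

theorem sign_tr_pair (e : PtsP p a r ≃ α) (i k : Fin a) (c : ZMod p) :
    Perm.sign (tr e (.ofAdd (Pi.single i c + Pi.single k c))) = 1 := by
  rw [ofAdd_add, map_mul, map_mul, sign_tr_single_eq e i k c, Int.units_mul_self]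

theorem exists_third (ha : 3 ≤ a) (i j : Fin a) : ∃ k, k ≠ i ∧ k ≠ j := by
  by_contra h
  push Not at h
  have hsub : (Finset.univ : Finset (Fin a)) ⊆ {i, j} := fun k _ => by
    rcases eq_or_ne k i with hk | hk
    · simp [hk]
    · simp [h k hk]
  have := (Finset.card_le_card hsub).trans Finset.card_le_two
  simp only [Finset.card_univ, Fintype.card_fin] at this
  omega

theorem mem_trGroup_of_commute (e : PtsP p a r ≃ α) (ha : 3 ≤ a) (hr : r ≤ 1) {g : Perm α}
    (hg : ∀ f, Perm.sign (tr e (.ofAdd f)) = 1 → g * tr e (.ofAdd f) = tr e (.ofAdd f) * g) :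
    g ∈ trGroup e := by
  refine centralizer_eq_tr e hr (W := {f | Perm.sign (tr e (.ofAdd f)) = 1}) (fun i j hij => ?_)
    (fun i => ?_) (fun i c => ?_) hg
  · obtain ⟨k, hki, hkj⟩ := exists_third ha i j
    exact ⟨_, sign_tr_pair e i k 1, by simp [hki.symm], by simp [hij.symm, hkj.symm]⟩
  · obtain ⟨k, hki, -⟩ := exists_third ha i i
    exact ⟨_, sign_tr_pair e i k 1, by simp [hki.symm]⟩
  · obtain ⟨k, hki, -⟩ := exists_third ha i i
    exact ⟨_, sign_tr_pair e i k c, by simp [hki.symm]⟩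

theorem centralizer_trA_le (e : PtsP p a r ≃ α) (ha : 3 ≤ a) (hr : r ≤ 1) :
    Subgroup.centralizer (trA e : Set (alternatingGroup α)) ≤ trA e := fun g hg =>
  Subgroup.mem_subgroupOf.2 (mem_trGroup_of_commute e ha hr fun f hf =>
    (congrArg Subtype.val (Subgroup.mem_centralizer_iff.1 hg ⟨_, Perm.mem_alternatingGroup.2 hf⟩
      (Subgroup.mem_subgroupOf.2 (tr_mem e f))) :).symm)

theorem exists_mem_center_of_stronglyClosed {G : Type*} [Group G] [Finite G] {S : Subgroup G}
    (hS : IsPGroup p S) {T : Subgroup G} (hT : (groupFusionSystem S).StronglyClosed T) (hne : T ≠ ⊥) :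
    ∃ z ∈ T, z ≠ 1 ∧ ∀ s ∈ S, s * z = z * s := by
  have hTn : (T.subgroupOf S).Normal := stronglyClosed_subgroupOf_normal hT
  have hnt : Nontrivial (T.subgroupOf S) :=
    (Subgroup.nontrivial_iff_ne_bot _).2 fun h => hne (by
      rw [Subgroup.subgroupOf_eq_bot] at h
      exact le_bot_iff.1 (h le_rfl hT.1))
  have hp : IsPGroup p (ConjAct S) := hS.of_equiv ConjAct.toConjAct
  obtain ⟨n, hn0, hn⟩ := (IsPGroup.to_subgroup hS (T.subgroupOf S)).nontrivial_iff_card.1 hnt
  obtain ⟨b, hb1, hb2⟩ := hp.exists_fixed_point_of_prime_dvd_card_of_fixed_point (T.subgroupOf S)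
    (hn ▸ dvd_pow_self p hn0.ne') (a := 1) (fun g => Subtype.ext (by simp))
  refine ⟨((b : S) : G), b.2, fun h => hb2 (Subtype.ext (Subtype.ext h.symm)), fun s hs => ?_⟩
  have h1 : ConjAct.toConjAct (⟨s, hs⟩ : S) • b = b := hb1 _
  have h2 : s * ((b : S) : G) * s⁻¹ = (b : S) :=
    congrArg (fun y : T.subgroupOf S => ((y : S) : G)) h1
  exact mul_inv_eq_iff_eq_mul.1 h2

variable {e : PtsP p a r ≃ α} {S T : Subgroup (alternatingGroup α)}

/-- The translations lying in `T`. -/
def trIn (e : PtsP p a r ≃ α) (T : Subgroup (alternatingGroup α)) : Set (Fin a → ZMod p) :=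
  {f | ∃ h : Perm.sign (tr e (.ofAdd f)) = 1,
    (⟨_, Perm.mem_alternatingGroup.2 h⟩ : alternatingGroup α) ∈ T}

theorem trIn_add {f g : Fin a → ZMod p} (hf : f ∈ trIn e T) (hg : g ∈ trIn e T) : f + g ∈ trIn e T := by
  obtain ⟨hf1, hf2⟩ := hf
  obtain ⟨hg1, hg2⟩ := hg
  have h : tr e (.ofAdd (f + g)) = tr e (.ofAdd f) * tr e (.ofAdd g) := by rw [ofAdd_add, map_mul]
  refine ⟨by rw [h, map_mul, hf1, hg1, one_mul], ?_⟩
  convert T.mul_mem hf2 hg2 using 1
  exact Subtype.ext h

theorem trIn_zero : (0 : Fin a → ZMod p) ∈ trIn e T := by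
  refine ⟨by rw [ofAdd_zero, map_one, map_one], ?_⟩
  convert T.one_mem using 1
  exact Subtype.ext (map_one (tr e)).symm |>.symm

theorem trIn_nsmul {f : Fin a → ZMod p} (hf : f ∈ trIn e T) (n : ℕ) : n • f ∈ trIn e T := by
  induction n with
  | zero => rw [zero_nsmul]; exact trIn_zero
  | succ n ih => rw [succ_nsmul]; exact trIn_add ih hf

theorem trIn_neg {f : Fin a → ZMod p} (hf : f ∈ trIn e T) : -f ∈ trIn e T := by
  have h := trIn_nsmul hf (p - 1)
  convert h using 1
  funext i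
  have hp := (Fact.out : p.Prime).one_le
  simp [Nat.cast_sub hp]

theorem trIn_sub {f g : Fin a → ZMod p} (hf : f ∈ trIn e T) (hg : g ∈ trIn e T) : f - g ∈ trIn e T := by
  rw [sub_eq_add_neg]
  exact trIn_add hf (trIn_neg hg)

theorem trIn_mon (hES : trA e ≤ S) (hT : (groupFusionSystem S).StronglyClosed T) {f : Fin a → ZMod p}
    (hf : f ∈ trIn e T) {σ : Perm (Fin a)} {v : Fin a → (ZMod p)ˣ} (hm : Perm.sign (mon e σ v) = 1) :
    (fun j => (v (σ.symm j) : ZMod p) * f (σ.symm j)) ∈ trIn e T := by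
  obtain ⟨hf1, hf2⟩ := hf
  have h := mon_conj_tr e σ v f
  refine ⟨by rw [← h, map_mul, map_mul, map_inv, hm, hf1]; rfl, ?_⟩
  let g : alternatingGroup α := ⟨_, Perm.mem_alternatingGroup.2 hm⟩
  have hmem : g * ⟨_, Perm.mem_alternatingGroup.2 hf1⟩ * g⁻¹ ∈ S := hES <| Subgroup.mem_subgroupOf.2 <| by
    show mon e σ v * tr e (.ofAdd f) * (mon e σ v)⁻¹ ∈ trGroup e
    rw [h]
    exact tr_mem e _
  convert conj_mem_of_stronglyClosed hT hf2 hmem using 1
  exact Subtype.ext h.symm

theorem mem_of_isConj (hT : (groupFusionSystem S).StronglyClosed T) {x y : alternatingGroup α}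
    (hx : x ∈ T) (hy : y ∈ S) (h : IsConj (x : Perm α) y) {c : Perm α} (hc : Perm.sign c = -1)
    (hcy : Commute c (y : Perm α)) : y ∈ T := by
  obtain ⟨g, hg, hgxy⟩ := exists_even_conj h hc hcy
  have h1 : (⟨g, Perm.mem_alternatingGroup.2 hg⟩ : alternatingGroup α) * x *
      (⟨g, Perm.mem_alternatingGroup.2 hg⟩)⁻¹ = y := Subtype.ext hgxy
  exact h1 ▸ conj_mem_of_stronglyClosed hT hx (h1 ▸ hy)

theorem exists_trIn_ne_zero (ha : 3 ≤ a) (hr : r ≤ 1) (hS : IsPGroup p S) (hES : trA e ≤ S)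
    (hT : (groupFusionSystem S).StronglyClosed T) (hne : T ≠ ⊥) : ∃ f ∈ trIn e T, f ≠ 0 := by
  obtain ⟨z, hzT, hz1, hzc⟩ := exists_mem_center_of_stronglyClosed hS hT hne
  have hzE : z ∈ trA e := centralizer_trA_le e ha hr
    (Subgroup.mem_centralizer_iff.2 fun x hx => hzc x (hES hx))
  obtain ⟨f, hf⟩ := mem_trGroup.1 (Subgroup.mem_subgroupOf.1 hzE)
  refine ⟨f, ⟨hf ▸ Perm.mem_alternatingGroup.1 z.2, ?_⟩, fun h0 => hz1 (Subtype.ext ?_)⟩
  · convert hzT using 1
    exact Subtype.ext hf.symm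
  · rw [hf, h0, ofAdd_zero, map_one]
    rfl

/-- The indicator of a set of blocks. -/
def ind (J : Finset (Fin a)) : Fin a → ZMod p := fun j => if j ∈ J then 1 else 0

theorem card_support_tr_ind (e : PtsP p a r ≃ α) (J : Finset (Fin a)) :
    (tr e (.ofAdd (ind J))).support.card = p * J.card := by
  have h : (tr e (.ofAdd (ind J))).support =
      (J.sigma fun _ => (Finset.univ : Finset (ZMod p))).map
        ((Function.Embedding.inl.trans e.toEmbedding)) := by
    ext z
    obtain ⟨⟨i, x⟩ | k, rfl⟩ := e.surjective z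
    · simp [tr_inl, ind]
    · simp [tr_inr]
  rw [h, Finset.card_map, Finset.card_sigma, Finset.sum_const, Finset.card_univ, ZMod.card, smul_eq_mul,
    mul_comm]

theorem card_eq (e : PtsP p a r ≃ α) : Fintype.card α = a * p + r := by
  rw [← Fintype.card_congr e]
  simp [ZMod.card]

theorem exists_card_support (e : PtsP p a r ≃ α) (hr : r ≤ 1) {y : Perm α} (hy : y ^ p = 1) :
    ∃ J : Finset (Fin a), y.support.card = p * J.card := by
  have hp := (Fact.out : p.Prime)
  obtain ⟨k, hk⟩ : ∃ k, y.support.card = p * k := by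
    refine ⟨Multiset.card y.cycleType, ?_⟩
    rw [← Perm.sum_cycleType, Perm.cycleType_of_pow_prime_eq_one hy]
    simp [mul_comm]
  have hle : k ≤ a := by
    have h1 := Finset.card_le_univ y.support
    rw [hk, card_eq e, mul_comm a] at h1
    by_contra h
    have h2 : p * (a + 1) ≤ p * k := Nat.mul_le_mul_left p (by omega)
    have := hp.two_le
    rw [mul_add, mul_one] at h2
    omega
  obtain ⟨J, -, hJ⟩ := Finset.exists_subset_card_eq (s := (Finset.univ : Finset (Fin a))) (n := k)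
    (by simpa using hle)
  exact ⟨J, by rw [hk, hJ]⟩

end CfsgLib.AltFusion
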