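import Mathlib

/-!
Permutations acting by translations on blocks of a partition, each block carrying a finite abelian group:
translations, blockwise automorphisms and monomial permutations.
-/
set_option autoImplicit false

namespace CfsgLib.AltFusion

open Equiv

section Translations

variable {α : Type*} {ι : Type*} {G : ι → Type*} [∀ i, AddCommGroup (G i)] {r : ℕ}

/-- The points: the blocks together with `r` further points. -/
abbrev Pts (G : ι → Type*) (r : ℕ) := (Σ i, G i) ⊕ Fin r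

/-- A permutation of the blocks, read on `α` and fixing the further points. -/
def lift (e : Pts G r ≃ α) : Perm (Σ i, G i) →* Perm α :=
  (e.permCongrHom.toMonoidHom.comp (Perm.sumCongrHom (Σ i, G i) (Fin r))).comp
    (MonoidHom.inl _ _)

theorem lift_inl (e : Pts G r ≃ α) (π : Perm (Σ i, G i)) (z : Σ i, G i) :
    lift e π (e (.inl z)) = e (.inl (π z)) := by
  simp [lift, Equiv.permCongr_apply]

theorem lift_inr (e : Pts G r ≃ α) (π : Perm (Σ i, G i)) (k : Fin r) :
    lift e π (e (.inr k)) = e (.inr k) := by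
  simp [lift, Equiv.permCongr_apply]

theorem lift_injective (e : Pts G r ≃ α) : Function.Injective (lift e) := fun π π' h => by
  ext1 z
  have := lift_inl e π z
  rw [h, lift_inl] at this
  exact (Sum.inl_injective (e.injective this)).symm

theorem perm_ext (e : Pts G r ≃ α) {σ τ : Perm α}
    (hl : ∀ (i : ι) (x : G i), σ (e (.inl ⟨i, x⟩)) = τ (e (.inl ⟨i, x⟩)))
    (hr : ∀ k, σ (e (.inr k)) = τ (e (.inr k))) : σ = τ := by
  ext a
  obtain ⟨z | k, rfl⟩ := e.surjective a
  exacts [hl z.1 z.2, hr k]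

theorem relabel_lift (e : Pts G r ≃ α) (h : Perm α) (π : Perm (Σ i, G i)) :
    lift (e.trans h) π = h * lift e π * h⁻¹ := by
  refine perm_ext (e.trans h) (fun i x => ?_) fun k => ?_
  · rw [lift_inl]; simp [lift_inl]
  · rw [lift_inr]; simp [lift_inr]

theorem sign_lift [Fintype α] [DecidableEq α] [Fintype ι] [DecidableEq ι] [∀ i, Fintype (G i)]
    [∀ i, DecidableEq (G i)] (e : Pts G r ≃ α) (π : Perm (Σ i, G i)) :
    Perm.sign (lift e π) = Perm.sign π := by
  show Perm.sign (e.permCongr (Perm.sumCongr π 1)) = _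
  rw [Perm.sign_permCongr, Perm.sign_sumCongr, map_one, mul_one]

/-- Translation by a family of block elements. -/
def trPerm (f : ∀ i, G i) : Perm (Σ i, G i) := Equiv.sigmaCongrRight fun i => Equiv.addRight (f i)

theorem trPerm_apply (f : ∀ i, G i) (i : ι) (x : G i) : trPerm f ⟨i, x⟩ = ⟨i, x + f i⟩ := rfl

/-- Translations, as a homomorphism to permutations of `α`. -/
def tr (e : Pts G r ≃ α) : Multiplicative (∀ i, G i) →* Perm α where
  toFun f := lift e (trPerm f.toAdd)
  map_one' := by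
    rw [← map_one (lift e)]
    congr 1
    ext1 z
    simp [trPerm]
  map_mul' f g := by
    rw [← map_mul]
    congr 1
    ext1 ⟨i, x⟩
    simp only [Perm.mul_apply, trPerm_apply, toAdd_mul, Pi.add_apply]
    rw [add_comm (f.toAdd i), add_assoc]

theorem tr_inl (e : Pts G r ≃ α) (f : ∀ i, G i) (i : ι) (x : G i) :
    tr e (.ofAdd f) (e (.inl ⟨i, x⟩)) = e (.inl ⟨i, x + f i⟩) := lift_inl e _ _

theorem tr_inr (e : Pts G r ≃ α) (f : ∀ i, G i) (k : Fin r) :
    tr e (.ofAdd f) (e (.inr k)) = e (.inr k) := lift_inr e _ _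

theorem tr_injective (e : Pts G r ≃ α) : Function.Injective (tr e) := fun f g h => by
  refine Multiplicative.toAdd.injective (funext fun i => ?_)
  have := tr_inl e f.toAdd i 0
  rw [show (Multiplicative.ofAdd f.toAdd) = f from rfl, h,
    show g = Multiplicative.ofAdd g.toAdd from rfl, tr_inl] at this
  have h2 := Sum.inl_injective (e.injective this)
  simp only [Sigma.mk.injEq, heq_eq_eq, true_and, zero_add] at h2
  exact h2.symm

theorem relabel_tr (e : Pts G r ≃ α) (h : Perm α) (f : Multiplicative (∀ i, G i)) :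
    tr (e.trans h) f = h * tr e f * h⁻¹ := relabel_lift e h _

/-- The subgroup of translations. -/
def trGroup (e : Pts G r ≃ α) : Subgroup (Perm α) := (tr e).range

theorem mem_trGroup {e : Pts G r ≃ α} {σ : Perm α} :
    σ ∈ trGroup e ↔ ∃ f : ∀ i, G i, σ = tr e (.ofAdd f) :=
  ⟨fun ⟨f, hf⟩ => ⟨f.toAdd, hf.symm⟩, fun ⟨f, hf⟩ => ⟨_, hf.symm⟩⟩

theorem tr_mem (e : Pts G r ≃ α) (f : ∀ i, G i) : tr e (.ofAdd f) ∈ trGroup e := ⟨_, rfl⟩

theorem relabel_trGroup (e : Pts G r ≃ α) (h : Perm α) :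
    trGroup (e.trans h) = (trGroup e).map (MulAut.conj h).toMonoidHom := by
  rw [trGroup, trGroup, MonoidHom.map_range]
  exact congrArg MonoidHom.range (MonoidHom.ext fun f => relabel_tr e h f)

/-- A permutation commuting with a set of translations that distinguishes blocks and shifts every block in all
ways is itself a translation. -/
theorem centralizer_eq_tr (e : Pts G r ≃ α) (hr : r ≤ 1) {W : Set (∀ i, G i)}
    (hsep : ∀ i j, i ≠ j → ∃ f ∈ W, f i ≠ 0 ∧ f j = 0) (hnt : ∀ i, ∃ f ∈ W, f i ≠ 0)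
    (hfull : ∀ i (c : G i), ∃ f ∈ W, f i = c) {g : Perm α}
    (hg : ∀ f ∈ W, g * tr e (.ofAdd f) = tr e (.ofAdd f) * g) : g ∈ trGroup e := by
  classical
  have hg' : ∀ f ∈ W, ∀ a, g (tr e (.ofAdd f) a) = tr e (.ofAdd f) (g a) := fun f hf a => by
    rw [← Perm.mul_apply, hg f hf, Perm.mul_apply]
  have hblock : ∀ i, ∃ c : G i, g (e (.inl ⟨i, 0⟩)) = e (.inl ⟨i, c⟩) := by
    intro i
    obtain ⟨⟨j, y⟩ | k, hz⟩ := e.surjective (g (e (.inl ⟨i, 0⟩)))
    · rcases eq_or_ne i j with rfl | hij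
      · exact ⟨y, hz.symm⟩
      obtain ⟨f, hf, hfi, hfj⟩ := hsep i j hij
      have := hg' f hf (e (.inl ⟨i, 0⟩))
      rw [tr_inl, ← hz, tr_inl, hfj, add_zero, hz] at this
      have h2 := Sum.inl_injective (e.injective (g.injective this))
      simp only [Sigma.mk.injEq, heq_eq_eq, true_and, zero_add] at h2
      exact absurd h2 hfi
    · obtain ⟨f, hf, hfi⟩ := hnt i
      have := hg' f hf (e (.inl ⟨i, 0⟩))
      rw [tr_inl, ← hz, tr_inr, hz] at this
      have h2 := Sum.inl_injective (e.injective (g.injective this))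
      simp only [Sigma.mk.injEq, heq_eq_eq, true_and, zero_add] at h2
      exact absurd h2 hfi
  choose c hc using hblock
  have hl : ∀ i x, g (e (.inl ⟨i, x⟩)) = e (.inl ⟨i, x + c i⟩) := by
    intro i x
    obtain ⟨f, hf, hfi⟩ := hfull i x
    have := hg' f hf (e (.inl ⟨i, 0⟩))
    rw [tr_inl, hc, tr_inl, hfi, zero_add, add_comm] at this
    exact this
  refine mem_trGroup.2 ⟨c, perm_ext e (fun i x => by rw [hl, tr_inl]) fun k => ?_⟩
  rw [tr_inr]
  obtain ⟨⟨j, y⟩ | k', hz⟩ := e.surjective (g (e (.inr k)))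
  · have h3 := hl j (y - c j)
    rw [sub_add_cancel, hz] at h3
    exact absurd (e.injective (g.injective h3)) (by simp)
  · rw [← hz, show k' = k from Fin.ext (by have := k.2; have := k'.2; omega)]

/-- A family of additive automorphisms, blockwise. -/
def lin (e : Pts G r ≃ α) (L : ∀ i, G i ≃+ G i) : Perm α :=
  lift e (Equiv.sigmaCongrRight fun i => (L i).toEquiv)

theorem lin_inl (e : Pts G r ≃ α) (L : ∀ i, G i ≃+ G i) (i : ι) (x : G i) :
    lin e L (e (.inl ⟨i, x⟩)) = e (.inl ⟨i, L i x⟩) := lift_inl e _ _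

theorem lin_inr (e : Pts G r ≃ α) (L : ∀ i, G i ≃+ G i) (k : Fin r) :
    lin e L (e (.inr k)) = e (.inr k) := lift_inr e _ _

theorem lin_conj_tr (e : Pts G r ≃ α) (L : ∀ i, G i ≃+ G i) (f : ∀ i, G i) :
    lin e L * tr e (.ofAdd f) * (lin e L)⁻¹ = tr e (.ofAdd fun i => L i (f i)) := by
  rw [mul_inv_eq_iff_eq_mul]
  refine perm_ext e (fun i x => ?_) fun k => ?_
  · simp only [Perm.mul_apply, tr_inl, lin_inl, map_add]
  · simp only [Perm.mul_apply, tr_inr, lin_inr]

theorem lin_mem_normalizer [Finite α] (e : Pts G r ≃ α) (L : ∀ i, G i ≃+ G i) :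
    lin e L ∈ Subgroup.normalizer (trGroup e : Set (Perm α)) := by
  refine Subgroup.mem_normalizer_iff.2 fun σ => ⟨fun hσ => ?_, fun hσ => ?_⟩
  · obtain ⟨f, rfl⟩ := mem_trGroup.1 hσ
    exact lin_conj_tr e L f ▸ tr_mem e _
  · obtain ⟨f, hf⟩ := mem_trGroup.1 hσ
    refine mem_trGroup.2 ⟨fun i => (L i).symm (f i), ?_⟩
    have h := lin_conj_tr e L fun i => (L i).symm (f i)
    simp only [AddEquiv.apply_symm_apply] at h
    rw [← h] at hf
    exact mul_left_cancel (mul_right_cancel hf)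

end Translations

/-! ### Monomial permutations, for blocks of size `p` -/

section Monomial

variable {α : Type*} {p a r : ℕ}

/-- The block structure with `a` blocks of size `p`. -/
abbrev PtsP (p a r : ℕ) := Pts (fun _ : Fin a => ZMod p) r

/-- A permutation of the blocks combined with scalings. -/
def monPerm (σ : Perm (Fin a)) (v : Fin a → (ZMod p)ˣ) : Perm (Σ _ : Fin a, ZMod p) where
  toFun z := ⟨σ z.1, (v z.1 : ZMod p) * z.2⟩
  invFun z := ⟨σ.symm z.1, ((v (σ.symm z.1))⁻¹ : (ZMod p)ˣ) * z.2⟩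
  left_inv z := by simp
  right_inv z := by simp

/-- The monomial permutation of `α`. -/
def mon (e : PtsP p a r ≃ α) (σ : Perm (Fin a)) (v : Fin a → (ZMod p)ˣ) : Perm α :=
  lift e (monPerm σ v)

variable (e : PtsP p a r ≃ α)

theorem mon_inl (σ : Perm (Fin a)) (v : Fin a → (ZMod p)ˣ) (i : Fin a) (x : ZMod p) :
    mon e σ v (e (.inl ⟨i, x⟩)) = e (.inl ⟨σ i, (v i : ZMod p) * x⟩) := lift_inl e _ _

theorem mon_inr (σ : Perm (Fin a)) (v : Fin a → (ZMod p)ˣ) (k : Fin r) :
    mon e σ v (e (.inr k)) = e (.inr k) := lift_inr e _ _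

theorem mon_one : mon e 1 1 = 1 := by
  refine perm_ext e (fun i x => ?_) fun k => ?_
  · simp [mon_inl]
  · simp [mon_inr]

theorem mon_mul (σ τ : Perm (Fin a)) (v w : Fin a → (ZMod p)ˣ) :
    mon e σ v * mon e τ w = mon e (σ * τ) (fun i => v (τ i) * w i) := by
  refine perm_ext e (fun i x => ?_) fun k => ?_
  · simp [mon_inl, mul_assoc]
  · simp [mon_inr]

theorem mon_conj_tr (σ : Perm (Fin a)) (v : Fin a → (ZMod p)ˣ) (f : Fin a → ZMod p) :
    mon e σ v * tr e (.ofAdd f) * (mon e σ v)⁻¹ =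
      tr e (.ofAdd fun j => (v (σ.symm j) : ZMod p) * f (σ.symm j)) := by
  rw [mul_inv_eq_iff_eq_mul]
  refine perm_ext e (fun i x => ?_) fun k => ?_
  · simp [mon_inl, tr_inl, mul_add]
  · simp [mon_inr, tr_inr]

theorem mon_mem_normalizer (σ : Perm (Fin a)) (v : Fin a → (ZMod p)ˣ) :
    mon e σ v ∈ Subgroup.normalizer (trGroup e : Set (Perm α)) := by
  refine Subgroup.mem_normalizer_iff.2 fun τ => ⟨fun hτ => ?_, fun hτ => ?_⟩
  · obtain ⟨f, rfl⟩ := mem_trGroup.1 hτ
    exact mon_conj_tr e σ v f ▸ tr_mem e _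
  · obtain ⟨f, hf⟩ := mem_trGroup.1 hτ
    refine mem_trGroup.2 ⟨fun j => ((v j)⁻¹ : (ZMod p)ˣ) * f (σ j), ?_⟩
    have h := mon_conj_tr e σ v fun j => ((v j)⁻¹ : (ZMod p)ˣ) * f (σ j)
    simp at h
    rw [← h] at hf
    exact mul_left_cancel (mul_right_cancel hf)

variable [Fintype α] [DecidableEq α] [NeZero p]

/-- The sign of a scaling of `ZMod p`. -/
def chi : (ZMod p)ˣ →* ℤˣ where
  toFun u := Perm.sign (Units.mulLeft u)
  map_one' := by
    rw [show Units.mulLeft (1 : (ZMod p)ˣ) = 1 from Equiv.ext fun x => by simp]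
    exact map_one _
  map_mul' u w := by
    rw [← map_mul]
    exact congrArg _ (Equiv.ext fun x => by simp [mul_assoc])

theorem sign_mon (σ : Perm (Fin a)) (v : Fin a → (ZMod p)ˣ) :
    Perm.sign (mon e σ v) = Perm.sign σ ^ p * ∏ i, chi (v i) := by
  rw [mon, sign_lift, ← Perm.sign_permCongr (Equiv.sigmaEquivProd (Fin a) (ZMod p))]
  have h : (Equiv.sigmaEquivProd (Fin a) (ZMod p)).permCongr (monPerm σ v) =
      Equiv.prodCongrLeft (fun _ : ZMod p => σ) * Equiv.prodCongrRight fun i => Units.mulLeft (v i) := by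
    ext1 ⟨i, x⟩
    rfl
  rw [h, map_mul, Perm.sign_prodCongrLeft, Perm.sign_prodCongrRight]
  simp [chi, ZMod.card]

theorem sign_tr {ι : Type*} [Fintype ι] [DecidableEq ι] {G : ι → Type*} [∀ i, AddCommGroup (G i)]
    [∀ i, Fintype (G i)] [∀ i, DecidableEq (G i)] {r : ℕ} (e : Pts G r ≃ α)
    (hodd : ∀ i, Odd (Fintype.card (G i))) (f : ∀ i, G i) :
    Perm.sign (tr e (.ofAdd f)) = 1 := by
  let N := ∏ i, Fintype.card (G i)
  have hN : Odd N := Finset.prod_induction _ Odd (fun _ _ => Odd.mul) odd_one fun i _ => hodd i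
  have h1 : tr e (.ofAdd f) ^ N = 1 := by
    rw [← map_pow, ← ofAdd_nsmul, ← map_one (tr e), ← ofAdd_zero]
    congr 2
    funext i
    obtain ⟨m, hm⟩ : Fintype.card (G i) ∣ N := Finset.dvd_prod_of_mem _ (Finset.mem_univ i)
    rw [Pi.smul_apply, Pi.zero_apply, hm, mul_nsmul, card_nsmul_eq_zero, nsmul_zero]
  rcases Int.units_eq_one_or (Perm.sign (tr e (.ofAdd f))) with h | h
  · exact h
  · have h2 := congrArg Perm.sign h1
    rw [map_pow, h, hN.neg_one_pow, map_one] at h2
    exact absurd h2 (by decide)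

end Monomial

end CfsgLib.AltFusion
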