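import Cfsg.Agent.Lib.AltFusion.Basic

/-!
`p` blocks of size `p` read as one affine plane over `ZMod p`, with the transvections and torus acting on it.
-/
set_option autoImplicit false

namespace CfsgLib.AltFusion

open Equiv

variable {α : Type*} {p a b r : ℕ}

/-- Number of coordinates of the piece: 2 for the plane, 1 for the other blocks. -/
abbrev plDim : Option (Fin b) → ℕ
  | none => 2
  | some _ => 1

/-- The pieces: one plane and `b` blocks. -/
abbrev PlG (p : ℕ) (o : Option (Fin b)) := Fin (plDim o) → ZMod p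

/-- The points of the plane picture as block points. -/
def planeEquiv (bl : Fin a ≃ ZMod p ⊕ Fin b) :
    (Σ _ : Fin a, ZMod p) ≃ Σ o : Option (Fin b), PlG p o where
  toFun z := match bl z.1 with
    | .inl q => ⟨none, (![z.2, q] : Fin 2 → ZMod p)⟩
    | .inr m => ⟨some m, (fun _ => z.2 : Fin 1 → ZMod p)⟩
  invFun z := match z with
    | ⟨none, v⟩ => ⟨bl.symm (.inl (v (1 : Fin 2))), v (0 : Fin 2)⟩
    | ⟨some m, v⟩ => ⟨bl.symm (.inr m), v (0 : Fin 1)⟩
  left_inv := by
    rintro ⟨i, x⟩
    rcases h : bl i with q | m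
    · have h2 : bl.symm (Sum.inl q) = i := (Equiv.symm_apply_eq bl).2 h.symm
      simp only [h]
      simp [h2]
    · have h2 : bl.symm (Sum.inr m) = i := (Equiv.symm_apply_eq bl).2 h.symm
      simp only [h]
      simp [h2]
  right_inv := by
    rintro ⟨_ | m, v⟩
    · simp only [Equiv.apply_symm_apply]
      congr 1
      funext i
      exact Fin.cases rfl (fun j => by rw [Subsingleton.elim j 0]; rfl) i
    · simp only [Equiv.apply_symm_apply]
      congr 1
      funext i
      exact congrArg (v : Fin 1 → ZMod p) (Subsingleton.elim (0 : Fin 1) i)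

/-- The same labelling seen with a plane. -/
def planeLabel (e : PtsP p a r ≃ α) (bl : Fin a ≃ ZMod p ⊕ Fin b) : Pts (PlG (b := b) p) r ≃ α :=
  ((planeEquiv bl).symm.sumCongr (Equiv.refl (Fin r))).trans e

theorem planeLabel_none (e : PtsP p a r ≃ α) (bl : Fin a ≃ ZMod p ⊕ Fin b) (v : Fin 2 → ZMod p) :
    planeLabel e bl (.inl ⟨none, v⟩) = e (.inl ⟨bl.symm (.inl (v 1)), v 0⟩) := rfl

theorem planeLabel_some (e : PtsP p a r ≃ α) (bl : Fin a ≃ ZMod p ⊕ Fin b) (m : Fin b) (v : Fin 1 → ZMod p) :
    planeLabel e bl (.inl ⟨some m, v⟩) = e (.inl ⟨bl.symm (.inr m), v 0⟩) := rfl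

theorem planeLabel_inr (e : PtsP p a r ≃ α) (bl : Fin a ≃ ZMod p ⊕ Fin b) (k : Fin r) :
    planeLabel e bl (.inr k) = e (.inr k) := rfl

theorem relabel_planeLabel (e : PtsP p a r ≃ α) (bl : Fin a ≃ ZMod p ⊕ Fin b) (h : Perm α) :
    planeLabel (e.trans h) bl = (planeLabel e bl).trans h := rfl

/-- An automorphism of the plane, the identity on the other blocks. -/
def planeAut (A : (Fin 2 → ZMod p) ≃+ (Fin 2 → ZMod p)) : ∀ o : Option (Fin b), PlG p o ≃+ PlG p o
  | none => A
  | some _ => AddEquiv.refl _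

/-- The upper transvection. -/
def upperT (s : ZMod p) : (Fin 2 → ZMod p) ≃+ (Fin 2 → ZMod p) where
  toFun v := ![v 0 + s * v 1, v 1]
  invFun v := ![v 0 - s * v 1, v 1]
  left_inv v := by funext i; fin_cases i <;> simp
  right_inv v := by funext i; fin_cases i <;> simp
  map_add' v w := by funext i; fin_cases i <;> simp <;> ring

/-- The lower transvection. -/
def lowerT (s : ZMod p) : (Fin 2 → ZMod p) ≃+ (Fin 2 → ZMod p) where
  toFun v := ![v 0, v 1 + s * v 0]
  invFun v := ![v 0, v 1 - s * v 0]
  left_inv v := by funext i; fin_cases i <;> simp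
  right_inv v := by funext i; fin_cases i <;> simp
  map_add' v w := by funext i; fin_cases i <;> simp <;> ring

/-- The permutation of a plane automorphism. -/
def planePerm (e : PtsP p a r ≃ α) (bl : Fin a ≃ ZMod p ⊕ Fin b)
    (A : (Fin 2 → ZMod p) ≃+ (Fin 2 → ZMod p)) : Perm α :=
  lin (planeLabel e bl) (planeAut A)

variable (e : PtsP p a r ≃ α) (bl : Fin a ≃ ZMod p ⊕ Fin b)

theorem planePerm_none (A : (Fin 2 → ZMod p) ≃+ (Fin 2 → ZMod p)) (v : Fin 2 → ZMod p) :
    planePerm e bl A (planeLabel e bl (.inl ⟨none, v⟩)) = planeLabel e bl (.inl ⟨none, A v⟩) :=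
  lin_inl (G := PlG (b := b) p) (planeLabel e bl) (planeAut A) none v

theorem planePerm_some (A : (Fin 2 → ZMod p) ≃+ (Fin 2 → ZMod p)) (m : Fin b) (v : Fin 1 → ZMod p) :
    planePerm e bl A (planeLabel e bl (.inl ⟨some m, v⟩)) = planeLabel e bl (.inl ⟨some m, v⟩) :=
  lin_inl (G := PlG (b := b) p) (planeLabel e bl) (planeAut A) (some m) v

theorem planePerm_inr (A : (Fin 2 → ZMod p) ≃+ (Fin 2 → ZMod p)) (k : Fin r) :
    planePerm e bl A (planeLabel e bl (.inr k)) = planeLabel e bl (.inr k) :=
  lin_inr _ _ k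

theorem plane_ext {σ τ : Perm α}
    (hn : ∀ v : Fin 2 → ZMod p,
      σ (planeLabel e bl (.inl ⟨none, v⟩)) = τ (planeLabel e bl (.inl ⟨none, v⟩)))
    (hs : ∀ (m : Fin b) (v : Fin 1 → ZMod p),
      σ (planeLabel e bl (.inl ⟨some m, v⟩)) = τ (planeLabel e bl (.inl ⟨some m, v⟩)))
    (hr : ∀ k, σ (planeLabel e bl (.inr k)) = τ (planeLabel e bl (.inr k))) : σ = τ :=
  perm_ext (planeLabel e bl) (fun o x => match o, x with
    | none, v => hn v
    | some m, v => hs m v) hr

theorem planePerm_pow {T : ZMod p → (Fin 2 → ZMod p) ≃+ (Fin 2 → ZMod p)}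
    (hT0 : ∀ v, T 0 v = v) (hT : ∀ s t v, T s (T t v) = T (s + t) v) (s : ZMod p) :
    planePerm e bl (T s) ^ p = 1 := by
  have h : ∀ m : ℕ, planePerm e bl (T s) ^ m = planePerm e bl (T (m * s)) := by
    intro m
    induction m with
    | zero =>
      refine plane_ext e bl (fun v => ?_) (fun k v => ?_) fun k => ?_
      · rw [pow_zero, Perm.one_apply, planePerm_none, Nat.cast_zero, zero_mul, hT0]
      · rw [pow_zero, Perm.one_apply, planePerm_some]
      · rw [pow_zero, Perm.one_apply, planePerm_inr]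
    | succ m ih =>
      rw [pow_succ, ih]
      refine plane_ext e bl (fun v => ?_) (fun k v => ?_) fun k => ?_
      · rw [Perm.mul_apply, planePerm_none, planePerm_none, planePerm_none, hT, Nat.cast_succ, add_mul,
          one_mul]
      · rw [Perm.mul_apply, planePerm_some, planePerm_some, planePerm_some]
      · rw [Perm.mul_apply, planePerm_inr, planePerm_inr, planePerm_inr]
  rw [h, ZMod.natCast_self, zero_mul]
  refine plane_ext e bl (fun v => ?_) (fun k v => ?_) fun k => ?_
  · rw [planePerm_none, hT0, Perm.one_apply]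
  · rw [planePerm_some, Perm.one_apply]
  · rw [planePerm_inr, Perm.one_apply]

theorem upperT_pow (s : ZMod p) : planePerm e bl (upperT s) ^ p = 1 :=
  planePerm_pow e bl (fun v => by funext i; fin_cases i <;> simp [upperT])
    (fun s t v => by funext i; fin_cases i <;> simp [upperT]; ring) s

theorem lowerT_pow (s : ZMod p) : planePerm e bl (lowerT s) ^ p = 1 :=
  planePerm_pow e bl (fun v => by funext i; fin_cases i <;> simp [lowerT])
    (fun s t v => by funext i; fin_cases i <;> simp [lowerT]; ring) s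

/-- The six transvections multiplying to a torus element. -/
def torusPerm (g : (ZMod p)ˣ) : Perm α :=
  planePerm e bl (upperT (g : ZMod p)) * planePerm e bl (lowerT (-((g⁻¹ : (ZMod p)ˣ) : ZMod p))) *
    planePerm e bl (upperT (g : ZMod p)) *
    (planePerm e bl (upperT (-1)) * planePerm e bl (lowerT 1) * planePerm e bl (upperT (-1)))

/-- The block permutation of the torus element. -/
def torusBlock (g : (ZMod p)ˣ) : Perm (Fin a) :=
  bl.trans ((Equiv.sumCongr (Units.mulLeft g⁻¹) (Equiv.refl (Fin b))).trans bl.symm)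

/-- The scalings of the torus element. -/
def torusScale (g : (ZMod p)ˣ) : Fin a → (ZMod p)ˣ := fun i => Sum.elim (fun _ => g) (fun _ => 1) (bl i)

theorem torusPerm_eq (g : (ZMod p)ˣ) :
    torusPerm e bl g = mon e (torusBlock bl g) (torusScale bl g) := by
  refine plane_ext e bl (fun v => ?_) (fun m v => ?_) fun k => ?_
  · simp only [torusPerm, Perm.mul_apply, planePerm_none]
    rw [planeLabel_none, planeLabel_none, mon_inl]
    congr 2
    have hg : ((g : ZMod p)) * ((g⁻¹ : (ZMod p)ˣ) : ZMod p) = 1 := g.mul_inv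
    simp [upperT, lowerT, torusBlock, torusScale]
    constructor <;> grind
  · simp only [torusPerm, Perm.mul_apply, planePerm_some]
    rw [planeLabel_some, mon_inl]
    simp [torusBlock, torusScale]
  · simp only [torusPerm, Perm.mul_apply, planePerm_inr]
    rw [planeLabel_inr, mon_inr]

/-- Plane translations normalize the block translations. -/
theorem tr_plane_eq (f : ∀ o : Option (Fin b), PlG p o) :
    tr (planeLabel e bl) (.ofAdd f) =
      mon e (bl.trans ((Equiv.sumCongr (Equiv.addRight (f none (1 : Fin 2)))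
          (Equiv.refl (Fin b))).trans bl.symm)) 1 *
        tr e (.ofAdd fun i => Sum.elim (fun _ => f none (0 : Fin 2))
          (fun m => f (some m) (0 : Fin 1)) (bl i)) := by
  refine plane_ext e bl (fun v => ?_) (fun m v => ?_) fun k => ?_
  · rw [tr_inl, planeLabel_none, planeLabel_none, Perm.mul_apply, tr_inl, mon_inl]
    simp
  · rw [tr_inl, planeLabel_some, planeLabel_some, Perm.mul_apply, tr_inl, mon_inl]
    simp
  · rw [tr_inr, planeLabel_inr, Perm.mul_apply, tr_inr, mon_inr]

end CfsgLib.AltFusion
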