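import Cfsg.Agent.Lib.AltFusion.OddClosed
import Cfsg.Agent.Lib.AltFusion.Plane

/-!
For odd `p` the `p`-fusion system of an alternating group with enough blocks is simple.
-/
set_option autoImplicit false

namespace CfsgLib.AltFusion

open Equiv Cfsg Cfsg.FusionSystem CfsgLib.Fusion CfsgLib.FusionQuot

variable {α : Type*} [Fintype α] [DecidableEq α] {p a b r : ℕ} [Fact p.Prime]

theorem trGroup_le_alternating (hp : p ≠ 2) (e : PtsP p a r ≃ α) : trGroup e ≤ alternatingGroup α := by
  intro σ hσ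
  obtain ⟨f, rfl⟩ := mem_trGroup.1 hσ
  exact Perm.mem_alternatingGroup.2 (sign_tr_odd hp e f)

theorem tr_plane_pow (e : PtsP p a r ≃ α) (bl : Fin a ≃ ZMod p ⊕ Fin b)
    (f : ∀ o : Option (Fin b), PlG p o) : tr (planeLabel e bl) (.ofAdd f) ^ p = 1 := by
  rw [← map_pow, ← ofAdd_nsmul, ← map_one (tr (planeLabel e bl)), ← ofAdd_zero]
  congr 2
  funext o i
  simp

theorem planeGroup_le_normalizer (e : PtsP p a r ≃ α) (bl : Fin a ≃ ZMod p ⊕ Fin b) :
    trGroup (planeLabel e bl) ≤ Subgroup.normalizer (trGroup e : Set (Perm α)) := by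
  intro σ hσ
  obtain ⟨f, rfl⟩ := mem_trGroup.1 hσ
  rw [tr_plane_eq]
  exact Subgroup.mul_mem _ (mon_mem_normalizer e _ _) (Subgroup.le_normalizer (tr_mem e _))

/-- The `p`-group generated by the block and plane translations. -/
def planeP (e : PtsP p a r ≃ α) (bl : Fin a ≃ ZMod p ⊕ Fin b) : Subgroup (Perm α) :=
  trGroup (planeLabel e bl) ⊔ trGroup e

theorem planeP_isPGroup (e : PtsP p a r ≃ α) (bl : Fin a ≃ ZMod p ⊕ Fin b) :
    IsPGroup p (planeP e bl) := by
  refine IsPGroup.to_sup_of_normal_right' ?_ ?_ (planeGroup_le_normalizer e bl)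
  · rintro ⟨σ, hσ⟩
    obtain ⟨f, rfl⟩ := mem_trGroup.1 hσ
    exact ⟨1, Subtype.ext (by rw [pow_one]; exact tr_plane_pow e bl f)⟩
  · rintro ⟨σ, hσ⟩
    obtain ⟨f, rfl⟩ := mem_trGroup.1 hσ
    exact ⟨1, Subtype.ext (by rw [pow_one]; exact tr_pow_p e f)⟩

theorem planeP_le_alternating (hp : p ≠ 2) (e : PtsP p a r ≃ α) (bl : Fin a ≃ ZMod p ⊕ Fin b) :
    planeP e bl ≤ alternatingGroup α := by
  refine sup_le ?_ (trGroup_le_alternating hp e)
  intro σ hσ
  obtain ⟨f, rfl⟩ := mem_trGroup.1 hσ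
  exact Perm.mem_alternatingGroup.2 (sign_eq_one_of_pow (odd_p hp) (tr_plane_pow e bl f))

theorem subgroupOf_normalizer_mem {G : Type*} [Group G] {K H : Subgroup G} {g : H}
    (hg : (g : G) ∈ Subgroup.normalizer (K : Set G)) :
    g ∈ Subgroup.normalizer (K.subgroupOf H : Set H) := by
  refine Subgroup.mem_normalizer_iff.2 fun x => ?_
  simp only [Subgroup.mem_subgroupOf, Subgroup.coe_mul, Subgroup.coe_inv]
  exact Subgroup.mem_normalizer_iff.1 hg x

theorem mem_normalizer_of_sylow_normalizer (hp : p ≠ 2) (hr : r < p) {e : PtsP p a r ≃ α}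
    (S : Sylow p (alternatingGroup α)) (hES : trA e ≤ (S : Subgroup (alternatingGroup α)))
    {g : alternatingGroup α}
    (hg : g ∈ Subgroup.normalizer ((S : Subgroup (alternatingGroup α)) : Set (alternatingGroup α))) :
    (g : Perm α) ∈ Subgroup.normalizer (trGroup e : Set (Perm α)) := by
  have key : ∀ g : alternatingGroup α,
      g ∈ Subgroup.normalizer ((S : Subgroup (alternatingGroup α)) : Set (alternatingGroup α)) →
      ∀ σ ∈ trGroup e, (g : Perm α) * σ * (g : Perm α)⁻¹ ∈ trGroup e := by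
    intro g hg σ hσ
    obtain ⟨f, rfl⟩ := mem_trGroup.1 hσ
    have hsingle : ∀ i c, (g : Perm α) * tr e (.ofAdd (Pi.single i c)) * (g : Perm α)⁻¹ ∈ trGroup e := by
      intro i c
      obtain ⟨j, d, hjd⟩ := exists_single_of_conj hr S.2 hES hp (g := (g : Perm α)) (i := i)
        ⟨g * ⟨_, Perm.mem_alternatingGroup.2 (sign_tr_odd hp e _)⟩ * g⁻¹,
          (Subgroup.mem_normalizer_iff.1 hg _).1 (hES (Subgroup.mem_subgroupOf.2 (tr_mem e _))), rfl⟩
      have : tr e (.ofAdd (Pi.single i c)) = tr e (.ofAdd (Pi.single i 1)) ^ c.val := by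
        rw [← map_pow, ← ofAdd_nsmul, ← Pi.single_smul', nsmul_one, ZMod.natCast_zmod_val]
      rw [this, ← conj_pow, hjd]
      exact Subgroup.pow_mem _ (tr_mem e _) _
    rw [← Finset.univ_sum_single f]
    induction (Finset.univ : Finset (Fin a)) using Finset.induction with
    | empty => simp
    | insert i s hi ih =>
      rw [Finset.sum_insert hi, ofAdd_add, map_mul,
        show ∀ A B : Perm α, (g : Perm α) * (A * B) * (g : Perm α)⁻¹ =
          ((g : Perm α) * A * (g : Perm α)⁻¹) * ((g : Perm α) * B * (g : Perm α)⁻¹) from fun A B => by group]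
      exact Subgroup.mul_mem _ (hsingle i _) ih
  refine Subgroup.mem_normalizer_iff.2 fun σ => ⟨key g hg σ, fun h => ?_⟩
  have h2 := key g⁻¹ (Subgroup.inv_mem _ hg) _ h
  simpa [mul_assoc] using h2

theorem exists_mon_decomp (hp : p ≠ 2) (ha : 3 ≤ a) (hr : r ≤ 1) {e : PtsP p a r ≃ α} {g : Perm α}
    (hg : g ∈ Subgroup.normalizer (trGroup e : Set (Perm α))) :
    ∃ (f : Fin a → ZMod p) (σ : Perm (Fin a)) (v : Fin a → (ZMod p)ˣ),
      g = mon e σ v * tr e (.ofAdd f) := by
  have hp1 : r < p := lt_of_le_of_lt hr (Fact.out : p.Prime).one_lt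
  have hpE : IsPGroup p (trA e) := by
    rintro ⟨⟨σ, hσA⟩, hσ⟩
    obtain ⟨f, hf⟩ := mem_trGroup.1 (Subgroup.mem_subgroupOf.1 hσ)
    refine ⟨1, Subtype.ext (Subtype.ext ?_)⟩
    show σ ^ (p ^ 1) = 1
    rw [pow_one, show σ = _ from hf, tr_pow_p]
  have hs : ∀ i, ∃ j c, g * tr e (.ofAdd (Pi.single i 1)) * g⁻¹ = tr e (.ofAdd (Pi.single j c)) := by
    intro i
    have h1 := (Subgroup.mem_normalizer_iff.1 hg _).1 (tr_mem e (Pi.single i 1))
    obtain ⟨f, hf⟩ := mem_trGroup.1 h1
    exact exists_single_of_conj hp1 hpE le_rfl hp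
      ⟨⟨_, Perm.mem_alternatingGroup.2 (sign_tr_odd hp e f)⟩, Subgroup.mem_subgroupOf.2 (tr_mem e f), hf.symm⟩
  choose σ c hσ using hs
  have hc : ∀ i, c i ≠ 0 := by
    intro i h
    have h1 := hσ i
    rw [h, Pi.single_zero, ofAdd_zero, map_one, conj_eq_one_iff, ← map_one (tr e), ← ofAdd_zero] at h1
    have := congrFun (Multiplicative.ofAdd.injective (tr_injective e h1)) i
    simp at this
  have hinj : Function.Injective σ := by
    intro i k hik
    by_contra hne
    set m : ℕ := (c k * (c i)⁻¹).val with hm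
    have h1 : g * tr e (.ofAdd (Pi.single i (m : ZMod p))) * g⁻¹ =
        g * tr e (.ofAdd (Pi.single k 1)) * g⁻¹ := by
      have e1 : (Pi.single i (m : ZMod p) : Fin a → ZMod p) = m • Pi.single i 1 := by
        rw [← Pi.single_smul', nsmul_one]
      rw [e1, ofAdd_nsmul, map_pow, ← conj_pow, hσ i, hσ k, hik, ← map_pow, ← ofAdd_nsmul,
        ← Pi.single_smul', nsmul_eq_mul, hm, ZMod.natCast_zmod_val, mul_assoc, inv_mul_cancel₀ (hc i), mul_one]
    have h2 := congrFun (Multiplicative.ofAdd.injective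
      (tr_injective e (mul_left_cancel (mul_right_cancel h1)))) k
    simp [Ne.symm hne] at h2
  let π : Perm (Fin a) := Equiv.ofBijective σ (Finite.injective_iff_bijective.1 hinj)
  let v : Fin a → (ZMod p)ˣ := fun i => Units.mk0 (c i) (hc i)
  have hmon : ∀ i, mon e π v * tr e (.ofAdd (Pi.single i 1)) * (mon e π v)⁻¹ =
      g * tr e (.ofAdd (Pi.single i 1)) * g⁻¹ := by
    intro i
    rw [hσ i, mon_conj_tr]
    congr 2
    funext j
    rcases eq_or_ne j (π i) with rfl | hj
    · rw [Equiv.symm_apply_apply, show π i = σ i from rfl]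
      simp [v]
    · have h1 : π.symm j ≠ i := fun h => hj (by rw [← h, Equiv.apply_symm_apply])
      rw [show σ i = π i from rfl]
      simp [h1, hj]
  have hcomm : (mon e π v)⁻¹ * g ∈ trGroup e := by
    refine mem_trGroup_of_commute e ha hr fun f _ => ?_
    rw [← Finset.univ_sum_single f]
    induction (Finset.univ : Finset (Fin a)) using Finset.induction with
    | empty => simp
    | insert i s hi ih =>
      rw [Finset.sum_insert hi, ofAdd_add, map_mul]
      refine (Commute.mul_right ?_ ih).eq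
      have e1 : (Pi.single i (f i) : Fin a → ZMod p) = (f i).val • Pi.single i 1 := by
        rw [← Pi.single_smul', nsmul_one, ZMod.natCast_zmod_val]
      rw [e1, ofAdd_nsmul, map_pow]
      refine Commute.pow_right ?_ _
      show _ = _
      have h1 := hmon i
      calc (mon e π v)⁻¹ * g * tr e (.ofAdd (Pi.single i 1))
          = (mon e π v)⁻¹ * (g * tr e (.ofAdd (Pi.single i 1)) * g⁻¹) * g := by group
        _ = _ := by rw [← h1]; group
  obtain ⟨f, hf⟩ := mem_trGroup.1 hcomm
  exact ⟨f, π, v, by rw [← hf, mul_inv_cancel_left]⟩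

theorem alternatingGroup_le_of_normal (hp : p ≠ 2) (hpa : p ≤ a) (H : Subgroup (alternatingGroup (Fin a)))
    [H.Normal] (hH : ∀ σ : alternatingGroup (Fin a), (σ : Perm (Fin a)) ^ p = 1 → σ ∈ H) : H = ⊤ := by
  have h3 : 3 ≤ p := by have := (Fact.out : p.Prime).two_le; omega
  rcases Nat.lt_or_ge p 5 with h5 | h5
  · obtain rfl : p = 3 := by
      have h4 : p ≠ 4 := fun h => by have := (Fact.out : p.Prime); rw [h] at this; exact absurd this (by decide)
      omega
    have hle : alternatingGroup (Fin a) ≤ H.map (alternatingGroup (Fin a)).subtype := by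
      refine (le_of_eq (Perm.closure_three_cycles_eq_alternating (α := Fin a)).symm).trans
        ((Subgroup.closure_le _).2 ?_)
      intro σ hσ
      refine ⟨⟨σ, (hσ : Perm.IsThreeCycle σ).mem_alternatingGroup⟩, hH _ ?_, rfl⟩
      exact orderOf_dvd_iff_pow_eq_one.1 (dvd_of_eq (hσ : Perm.IsThreeCycle σ).orderOf)
    refine eq_top_iff.2 fun σ _ => ?_
    obtain ⟨τ, hτ, hτσ⟩ := hle σ.2
    exact (Subtype.ext hτσ : τ = σ) ▸ hτ
  · have : IsSimpleGroup (alternatingGroup (Fin a)) :=
      alternatingGroup.isSimpleGroup (by rw [Nat.card_fin]; omega)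
    refine (IsSimpleGroup.eq_bot_or_eq_top_of_normal H inferInstance).resolve_left fun hbot => ?_
    obtain ⟨σ, hσ⟩ : ∃ σ : Perm (Fin a), orderOf σ = p :=
      exists_prime_orderOf_dvd_card' p (by
        rw [Nat.card_perm, Nat.card_fin]; exact Nat.dvd_factorial (Fact.out : p.Prime).pos hpa)
    have hσp : σ ^ p = 1 := by rw [← hσ, pow_orderOf_eq_one]
    have h1 := hH ⟨σ, Perm.mem_alternatingGroup.2 (sign_eq_one_of_pow (odd_p hp) hσp)⟩ hσp
    rw [hbot, Subgroup.mem_bot] at h1
    rw [show σ = 1 from congrArg Subtype.val h1, orderOf_one] at hσ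
    exact (Fact.out : p.Prime).one_lt.ne hσ

theorem isSimple_odd (hp : p ≠ 2) (hr : r ≤ 1) (e : PtsP p a r ≃ α) (bl : Fin a ≃ ZMod p ⊕ Fin b)
    (S : Sylow p (alternatingGroup α))
    (hPS : (planeP e bl).subgroupOf (alternatingGroup α) ≤ (S : Subgroup (alternatingGroup α))) :
    (groupFusionSystem (S : Subgroup (alternatingGroup α))).IsSimple p := by
  classical
  have hap : a = p + b := by
    have := Fintype.card_congr bl
    simpa [ZMod.card] using this
  have ha : 3 ≤ a := by have := (Fact.out : p.Prime).two_le; omega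
  have hr' : r < p := lt_of_le_of_lt hr (Fact.out : p.Prime).one_lt
  let R : Subgroup (alternatingGroup α) := (trGroup (planeLabel e bl)).subgroupOf (alternatingGroup α)
  let P : Subgroup (alternatingGroup α) := (planeP e bl).subgroupOf (alternatingGroup α)
  have hRP : R ≤ P := Subgroup.comap_mono le_sup_left
  have hEP : trA e ≤ P := Subgroup.comap_mono le_sup_right
  have hES : trA e ≤ (S : Subgroup (alternatingGroup α)) := hEP.trans hPS
  have hne : (S : Subgroup (alternatingGroup α)) ≠ ⊥ := by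
    intro h
    have h2 := hES (Subgroup.mem_subgroupOf.2 (tr_mem e (Pi.single (⟨0, by omega⟩ : Fin a) 1)) :
      (⟨_, Perm.mem_alternatingGroup.2 (sign_tr_odd hp e _)⟩ : alternatingGroup α) ∈ trA e)
    rw [h, Subgroup.mem_bot] at h2
    have h3 : tr e (.ofAdd (Pi.single (⟨0, by omega⟩ : Fin a) 1)) = 1 := congrArg Subtype.val h2
    rw [← map_one (tr e), ← ofAdd_zero] at h3
    have := congrFun (Multiplicative.ofAdd.injective (tr_injective e h3)) ⟨0, by omega⟩
    simp at this
  refine isSimple_of_conjHom S hne (fun T hT => ?_) fun E hE hinv g hg => ?_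
  · exact (eq_or_ne T ⊥).imp id fun h => closed_eq_odd hp ha hr S hES hT h
  -- conjugation maps on the translations
  set N := Subgroup.normalizer (trA e : Set (alternatingGroup α))
  let Y : Subgroup N := (E.autGroup (trA e)).comap (trA e).normalizerMonoidHom
  have memY : ∀ x : N, x ∈ Y ↔ conjHom (trA e) (x : alternatingGroup α) ∈ E.Hom (trA e) := fun x => by
    rw [Subgroup.mem_comap, mem_autGroup_iff_hom hES]
    rfl
  have hYn : Y.Normal := ⟨fun y hy x => by
    rw [Subgroup.mem_comap, map_mul, map_mul, map_inv]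
    refine conj_mem_autGroup_of_invariant hinv hES ?_ hy
    rw [group_autGroup_eq hES]
    exact conjAut_mem_autInducedBy (Subgroup.mem_top _) x.2⟩
  have hpY : ∀ x : N, ((x : alternatingGroup α) : Perm α) ^ p = 1 → x ∈ Y := by
    intro x hx
    refine (memY x).2 (conjHom_mem_of_closure S hE hinv hES (Subgroup.subset_closure ⟨x.2, ?_⟩))
    obtain ⟨k, -, hk⟩ := (Nat.dvd_prime_pow (Fact.out : p.Prime)).1
      (orderOf_dvd_of_pow_eq_one (show (x : alternatingGroup α) ^ (p ^ 1) = 1 by
        rw [pow_one]; exact Subtype.ext hx))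
    exact ⟨k, hk⟩
  have hNmem : ∀ {g : alternatingGroup α}, (g : Perm α) ∈ Subgroup.normalizer (trGroup e : Set (Perm α)) →
      g ∈ N := fun h => subgroupOf_normalizer_mem h
  -- the block permutations
  let π : alternatingGroup (Fin a) →* N :=
    { toFun := fun σ => ⟨⟨mon e σ 1, Perm.mem_alternatingGroup.2 (by
          rw [sign_mon_odd hp, Perm.mem_alternatingGroup.1 σ.2]; simp)⟩,
          hNmem (mon_mem_normalizer e _ _)⟩
      map_one' := Subtype.ext (Subtype.ext (mon_one e))
      map_mul' := fun σ τ => by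
        refine Subtype.ext (Subtype.ext ?_)
        show mon e _ 1 = mon e σ 1 * mon e τ 1
        rw [mon_mul]
        simp only [Pi.one_apply, one_mul]
        rfl }
  have hπ : ∀ σ, π σ ∈ Y := by
    have : Y.comap π = ⊤ := alternatingGroup_le_of_normal hp (by omega) _ fun σ hσ => hpY _ (by
      have h1 : π σ ^ p = 1 := by
        rw [← map_pow, show σ ^ p = 1 from Subtype.ext hσ, map_one]
      exact congrArg (fun z : N => ((z : alternatingGroup α) : Perm α)) h1)
    intro σ
    exact Subgroup.mem_comap.1 (this ▸ Subgroup.mem_top σ)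
  -- the scalings with product one
  let Sc : (Fin a → (ZMod p)ˣ) → Prop := fun v =>
    ∃ h : (⟨mon e 1 v, mon_mem_normalizer e 1 v⟩ : Subgroup.normalizer (trGroup e : Set (Perm α))).1 ∈
      alternatingGroup α, (⟨⟨mon e 1 v, h⟩, hNmem (mon_mem_normalizer e 1 v)⟩ : N) ∈ Y
  have hSc1 : Sc 1 := ⟨by show mon e 1 1 ∈ _; rw [mon_one]; exact Subgroup.one_mem _, by
    convert Y.one_mem using 1
    exact Subtype.ext (Subtype.ext (mon_one e))⟩
  have hScm : ∀ v w, Sc v → Sc w → Sc (v * w) := by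
    rintro v w ⟨hv, hv'⟩ ⟨hw, hw'⟩
    have h : mon e 1 (v * w) = mon e 1 v * mon e 1 w := by rw [mon_mul, one_mul]; rfl
    refine ⟨by show mon e 1 (v * w) ∈ _; rw [h]; exact Subgroup.mul_mem _ hv hw, ?_⟩
    convert Y.mul_mem hv' hw' using 1
    exact Subtype.ext (Subtype.ext h)
  have hScp : ∀ i k : Fin a, i ≠ k → ∀ c : (ZMod p)ˣ,
      Sc (Function.update (Function.update (1 : Fin a → (ZMod p)ˣ) i c) k c⁻¹) := by
    intro i k hik c
    obtain ⟨j, hji, hjk⟩ := exists_third ha i k
    let v : Fin a → (ZMod p)ˣ := fun l => if l = i ∨ l = j then c else 1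
    have hv : Perm.sign (mon e 1 v) = 1 := by
      rw [sign_mon_odd hp, map_one, one_mul, sign_mon_update v hji.symm fun l h1 h2 => if_neg (by tauto)]
      simp [v, Int.units_mul_self]
    let σ : alternatingGroup (Fin a) := ⟨Equiv.swap i k * Equiv.swap i j, Perm.mem_alternatingGroup.2 (by
      rw [map_mul, Perm.sign_swap hik, Perm.sign_swap hji.symm]; decide)⟩
    let mv : N := ⟨⟨mon e 1 v, Perm.mem_alternatingGroup.2 hv⟩, hNmem (mon_mem_normalizer e 1 v)⟩
    have hmem : mv * π σ * mv⁻¹ * (π σ)⁻¹ ∈ Y :=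
      Y.mul_mem (hYn.conj_mem _ (hπ σ) mv) (Y.inv_mem (hπ σ))
    have key : mon e 1 v * mon e (σ : Perm (Fin a)) 1 =
        mon e 1 (Function.update (Function.update (1 : Fin a → (ZMod p)ˣ) i c) k c⁻¹) *
          (mon e (σ : Perm (Fin a)) 1 * mon e 1 v) := by
      rw [mon_mul, mon_mul, mon_mul, one_mul, mul_one, one_mul]
      congr 1
      funext l
      simp only [Perm.one_apply, Pi.one_apply, one_mul, mul_one, σ, Perm.mul_apply, v]
      rcases eq_or_ne l i with rfl | hli
      · simp [Equiv.swap_apply_of_ne_of_ne hji hjk, hji, hjk]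
      rcases eq_or_ne l j with rfl | hlj
      · simp [hik.symm, hjk.symm]
      rcases eq_or_ne l k with rfl | hlk
      · simp [Equiv.swap_apply_of_ne_of_ne hik.symm hjk.symm, hik, hik.symm, hlj]
      · simp [Equiv.swap_apply_of_ne_of_ne hli hlj, Equiv.swap_apply_of_ne_of_ne hli hlk, hli, hlj, hlk]
    refine ⟨?_, ?_⟩
    · show mon e 1 _ ∈ _
      refine Perm.mem_alternatingGroup.2 ?_
      rw [sign_mon_odd hp, map_one, one_mul, sign_mon_update _ hik fun l h1 h2 => by
        simp [Function.update_of_ne h2, Function.update_of_ne h1]]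
      simp [hik, Int.units_mul_self]
    · convert hmem using 1
      refine Subtype.ext (Subtype.ext ?_)
      show _ = mon e 1 v * mon e (σ : Perm (Fin a)) 1 * (mon e 1 v)⁻¹ * (mon e (σ : Perm (Fin a)) 1)⁻¹
      rw [key]
      group
  have hSc : ∀ u : Fin a → (ZMod p)ˣ, ∏ i, u i = 1 → Sc u := by
    intro u hu
    let i₀ : Fin a := ⟨0, by omega⟩
    have h1 : ∀ s : Finset (Fin a), Sc ((∏ i ∈ s, Pi.mulSingle i (u i)) * Pi.mulSingle i₀ (∏ i ∈ s, u i)⁻¹) := by
      intro s
      induction s using Finset.induction with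
      | empty =>
        rw [Finset.prod_empty, Finset.prod_empty, inv_one, Pi.mulSingle_one, one_mul]
        exact hSc1
      | insert i s hi ih =>
        rw [Finset.prod_insert hi, Finset.prod_insert hi, mul_inv, Pi.mulSingle_mul, mul_mul_mul_comm]
        refine hScm _ _ ?_ ih
        rcases eq_or_ne i i₀ with rfl | hii
        · rw [← Pi.mulSingle_mul, mul_inv_cancel, Pi.mulSingle_one]
          exact hSc1
        · convert hScp i i₀ hii (u i) using 1
          funext l
          rcases eq_or_ne l i with rfl | hli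
          · simp [hii]
          rcases eq_or_ne l i₀ with rfl | hl0
          · simp [hli]
          · simp [hli, hl0]
    have h2 := h1 Finset.univ
    rwa [Finset.univ_prod_mulSingle, hu, inv_one, Pi.mulSingle_one, mul_one] at h2
  -- the torus element
  obtain ⟨γ, hγ⟩ := IsCyclic.exists_generator (α := (ZMod p)ˣ)
  have hplA : ∀ A, planePerm e bl A ^ p = 1 → planePerm e bl A ∈ alternatingGroup α := fun A h =>
    Perm.mem_alternatingGroup.2 (sign_eq_one_of_pow (odd_p hp) h)
  let Up : ZMod p → alternatingGroup α := fun s => ⟨_, hplA _ (upperT_pow e bl s)⟩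
  let Lo : ZMod p → alternatingGroup α := fun s => ⟨_, hplA _ (lowerT_pow e bl s)⟩
  let t : alternatingGroup α :=
    Up (γ : ZMod p) * Lo (-((γ⁻¹ : (ZMod p)ˣ) : ZMod p)) * Up (γ : ZMod p) * (Up (-1) * Lo 1 * Up (-1))
  have ht : (t : Perm α) = mon e (torusBlock bl γ) (torusScale bl γ) := torusPerm_eq e bl γ
  have htcl : t ∈ Subgroup.closure
      {g : alternatingGroup α | g ∈ Subgroup.normalizer (R : Set (alternatingGroup α)) ∧
        ∃ k : ℕ, orderOf g = p ^ k} := by
    have hgen : ∀ A (h : planePerm e bl A ^ p = 1),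
        (⟨_, hplA A h⟩ : alternatingGroup α) ∈ Subgroup.closure
          {g : alternatingGroup α | g ∈ Subgroup.normalizer (R : Set (alternatingGroup α)) ∧
            ∃ k : ℕ, orderOf g = p ^ k} := by
      intro A h
      refine Subgroup.subset_closure ⟨subgroupOf_normalizer_mem (lin_mem_normalizer _ _), ?_⟩
      obtain ⟨k, -, hk⟩ := (Nat.dvd_prime_pow (Fact.out : p.Prime)).1
        (orderOf_dvd_of_pow_eq_one (show (⟨_, hplA A h⟩ : alternatingGroup α) ^ (p ^ 1) = 1 by
          rw [pow_one]; exact Subtype.ext h))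
      exact ⟨k, hk⟩
    have hU : ∀ s, Up s ∈ _ := fun s => hgen _ (upperT_pow e bl s)
    have hL : ∀ s, Lo s ∈ _ := fun s => hgen _ (lowerT_pow e bl s)
    exact Subgroup.mul_mem _ (Subgroup.mul_mem _ (Subgroup.mul_mem _ (hU _) (hL _)) (hU _))
      (Subgroup.mul_mem _ (Subgroup.mul_mem _ (hU _) (hL _)) (hU _))
  have htR : (t : Perm α) ∈ Subgroup.normalizer (trGroup (planeLabel e bl) : Set (Perm α)) := by
    have h : ∀ A, planePerm e bl A ∈
        Subgroup.normalizer (trGroup (planeLabel e bl) : Set (Perm α)) := fun A => lin_mem_normalizer _ _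
    exact Subgroup.mul_mem _ (Subgroup.mul_mem _ (Subgroup.mul_mem _ (h _) (h _)) (h _))
      (Subgroup.mul_mem _ (Subgroup.mul_mem _ (h _) (h _)) (h _))
  have htE : (t : Perm α) ∈ Subgroup.normalizer (trGroup e : Set (Perm α)) := ht ▸ mon_mem_normalizer e _ _
  have htP : ∀ x ∈ P, t * x * t⁻¹ ∈ (S : Subgroup (alternatingGroup α)) := by
    intro x hx
    refine hPS (Subgroup.mem_subgroupOf.2 ?_)
    have hle : (planeP e bl).map (MulAut.conj (t : Perm α)).toMonoidHom ≤ planeP e bl := by
      rw [planeP, Subgroup.map_sup]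
      refine sup_le_sup ?_ ?_
      · exact le_of_eq (Subgroup.mem_normalizer_iff_map_conj_eq.1 htR)
      · exact le_of_eq (Subgroup.mem_normalizer_iff_map_conj_eq.1 htE)
    exact hle ⟨_, Subgroup.mem_subgroupOf.1 hx, rfl⟩
  have hCR : Subgroup.centralizer (R : Set (alternatingGroup α)) ≤ R := fun g hg => by
    refine Subgroup.mem_subgroupOf.2 (centralizer_eq_tr (planeLabel e bl) hr (W := Set.univ) ?_ ?_ ?_ ?_)
    · intro i j hij
      exact ⟨Pi.single i (fun _ => 1), trivial, by
        rcases i with _ | i <;> simp [Function.ne_iff], by simp [hij.symm]⟩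
    · intro i
      exact ⟨Pi.single i (fun _ => 1), trivial, by rcases i with _ | i <;> simp [Function.ne_iff]⟩
    · exact fun i c => ⟨Pi.single i c, trivial, Pi.single_eq_same i c⟩
    · intro f _
      exact ((congrArg Subtype.val (Subgroup.mem_centralizer_iff.1 hg
        ⟨_, planeP_le_alternating hp e bl (Subgroup.mem_sup_left (tr_mem _ f))⟩
        (Subgroup.mem_subgroupOf.2 (tr_mem _ f)))) :).symm
  have htY : (⟨t, hNmem htE⟩ : N) ∈ Y := by
    refine (memY _).2 ?_
    have h1 := conjHom_mem_of_closure S hE hinv (hRP.trans hPS) htcl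
    have h2 := conjHom_mem_extend S hE hinv.1 hRP hPS hCR htP h1
    exact mem_of_restrict h2 hEP _ fun _ => rfl
  -- the normalizer of the Sylow subgroup
  have hgN' := mem_normalizer_of_sylow_normalizer hp hr' S hES hg
  obtain ⟨f, σ, v, hgd⟩ := exists_mon_decomp hp ha hr hgN'
  have hgY : (⟨g, hNmem hgN'⟩ : N) ∈ Y := by
    let trN : N := ⟨⟨_, Perm.mem_alternatingGroup.2 (sign_tr_odd hp e f)⟩,
      hNmem (Subgroup.le_normalizer (tr_mem e f))⟩
    have htr : trN ∈ Y := hpY _ (tr_pow_p e f)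
    obtain ⟨j, hj⟩ : ∃ j : ℕ, γ ^ j = ∏ i, v i := by
      obtain ⟨j, hj⟩ := (isOfFinOrder_of_finite γ).mem_powers_iff_mem_zpowers.2 (hγ (∏ i, v i))
      exact ⟨j, hj⟩
    have hsigng : Perm.sign (mon e σ v) = 1 := by
      have h := Perm.mem_alternatingGroup.1 g.2
      rwa [hgd, map_mul, sign_tr_odd hp, mul_one] at h
    let gm : N := ⟨⟨mon e σ v, Perm.mem_alternatingGroup.2 hsigng⟩, hNmem (mon_mem_normalizer e σ v)⟩
    have hts : ∏ i, torusScale bl γ i = γ := by
      show ∏ i, Sum.elim (fun _ => γ) (fun _ => 1) (bl i) = γ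
      rw [Fintype.prod_equiv bl _ (Sum.elim (fun _ => γ) (fun _ => 1)) fun i => rfl, Fintype.prod_sum_type]
      simp only [Sum.elim_inl, Sum.elim_inr, Finset.prod_const, Finset.card_univ, ZMod.card, one_pow, mul_one]
      refine Units.ext ?_
      rw [Units.val_pow_eq_pow_val]
      exact ZMod.pow_card _
    have htpow : ∀ j : ℕ, ∃ τ w, (t : Perm α) ^ j = mon e τ w ∧ ∏ i, w i = γ ^ j := by
      intro j
      induction j with
      | zero => exact ⟨1, 1, by rw [pow_zero, mon_one], by simp⟩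
      | succ j ih =>
        obtain ⟨τ, w, h1, h2⟩ := ih
        refine ⟨τ * torusBlock bl γ, fun i => w (torusBlock bl γ i) * torusScale bl γ i,
          by rw [pow_succ, h1, ht, mon_mul], ?_⟩
        rw [Finset.prod_mul_distrib, Equiv.prod_comp (torusBlock bl γ) w, h2, hts, pow_succ]
    obtain ⟨τ, w, htj, hw⟩ := htpow j
    let w' : Fin a → (ZMod p)ˣ := fun i => (w (τ⁻¹ i))⁻¹
    have hinv : mon e τ w * mon e τ⁻¹ w' = 1 := by
      rw [mon_mul, mul_inv_cancel]
      simp only [w', mul_inv_cancel]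
      exact mon_one e
    have htjinv : ((t : Perm α) ^ j)⁻¹ = mon e τ⁻¹ w' := by
      rw [htj]; exact inv_eq_of_mul_eq_one_right hinv
    let σ' : Perm (Fin a) := σ * τ⁻¹
    let v' : Fin a → (ZMod p)ˣ := fun i => v (τ⁻¹ i) * w' i
    have hv' : ∏ i, v' i = 1 := by
      simp only [v', w']
      rw [Finset.prod_mul_distrib, Equiv.prod_comp τ⁻¹ v,
        Equiv.prod_comp τ⁻¹ (fun k => (w k)⁻¹), Finset.prod_inv_distrib, hw, hj, mul_inv_cancel]
    obtain ⟨hA1, hY1⟩ := hSc v' hv'
    have heq : mon e σ v * ((t : Perm α) ^ j)⁻¹ = mon e σ' 1 * mon e 1 v' := by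
      rw [htjinv, mon_mul, mon_mul, mul_one]
      simp only [Perm.one_apply, Pi.one_apply, one_mul]
      rfl
    have hσ' : σ' ∈ alternatingGroup (Fin a) := by
      have h := congrArg Perm.sign heq
      rw [map_mul, hsigng, map_inv, map_pow, Perm.mem_alternatingGroup.1 t.2, one_pow, inv_one, one_mul,
        map_mul, Perm.mem_alternatingGroup.1 hA1, mul_one, sign_mon_odd hp] at h
      simpa using h.symm
    have hgm : gm = π ⟨σ', hσ'⟩ * ⟨⟨mon e 1 v', hA1⟩, hNmem (mon_mem_normalizer e 1 v')⟩ *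
        (⟨t, hNmem htE⟩ : N) ^ j := by
      refine Subtype.ext (Subtype.ext ?_)
      show mon e σ v = mon e σ' 1 * mon e 1 v' * ((t : Perm α) ^ j)
      rw [← heq, inv_mul_cancel_right]
    have hgmY : gm ∈ Y := hgm ▸ Y.mul_mem (Y.mul_mem (hπ _) hY1) (Y.pow_mem htY j)
    convert Y.mul_mem hgmY htr using 1
    exact Subtype.ext (Subtype.ext hgd)
  exact conjHom_mem_extend S hE hinv.1 hES le_rfl (centralizer_trA_le e ha hr)
    (fun x hx => (Subgroup.mem_normalizer_iff.1 hg x).1 hx) ((memY _).1 hgY)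

end CfsgLib.AltFusion
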