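import Cfsg.Agent.Lib.AltFusion.Two
import Cfsg.Agent.Lib.AltFusion.Odd

/-!
The `p`-fusion systems of alternating groups are simple when `p ^ 2 ≤ n` and `n % p ≤ 1`.
-/
set_option autoImplicit false

namespace CfsgLib.AltFusion

open Equiv Cfsg Cfsg.FusionSystem CfsgLib.Fusion CfsgLib.FusionQuot

theorem kleinTwist_relabel {α : Type*} {a r : ℕ} (e : PtsP 2 a r ≃ α) (h : Perm α) (i j : Fin a) :
    kleinTwist (e.trans h) i j = h * kleinTwist e i j * h⁻¹ := by
  have h1 : mon (e.trans h) (Equiv.swap i j) 1 = h * mon e (Equiv.swap i j) 1 * h⁻¹ := relabel_lift e h _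
  rw [kleinTwist, kleinTwist, h1, relabel_tr]
  group

theorem planeP_relabel {α : Type*} [Fintype α] [DecidableEq α] {p a b r : ℕ} [Fact p.Prime] (e : PtsP p a r ≃ α) (bl : Fin a ≃ ZMod p ⊕ Fin b)
    (h : Perm α) : planeP (e.trans h) bl = (planeP e bl).map (MulAut.conj h).toMonoidHom := by
  rw [planeP, planeP, Subgroup.map_sup, relabel_planeLabel, relabel_trGroup, relabel_trGroup]

theorem alternating_isSimple (n p : ℕ) (hn : 6 ≤ n) [Fact p.Prime] (hnp : p ^ 2 ≤ n) (hb : n % p ≤ 1)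
    (S : Sylow p (alternatingGroup (Fin n))) :
    (groupFusionSystem (S : Subgroup (alternatingGroup (Fin n)))).IsSimple p := by
  classical
  have hp := (Fact.out : p.Prime)
  have hsum : n / p * p + n % p = n := Nat.div_add_mod' n p
  obtain ⟨e₀⟩ : Nonempty (PtsP p (n / p) (n % p) ≃ Fin n) :=
    ⟨Fintype.equivOfCardEq (by simp [ZMod.card]; exact hsum)⟩
  by_cases h2 : p = 2
  · subst h2
    have ha : 3 ≤ n / 2 := by omega
    set i₀ : Fin (n / 2) := ⟨0, by omega⟩ with hi₀
    set i₁ : Fin (n / 2) := ⟨1, by omega⟩ with hi₁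
    have h01 : i₀ ≠ i₁ := by simp [i₀, i₁, Fin.ext_iff]
    let z := kleinTwist e₀ i₀ i₁
    have hzn : ∀ σ ∈ trGroup e₀, z * σ * z⁻¹ ∈ trGroup e₀ := by
      intro σ hσ
      exact (Subgroup.mem_normalizer_iff.1 (Subgroup.mul_mem _ (mon_mem_normalizer e₀ _ _)
        (Subgroup.le_normalizer (tr_mem e₀ _))) σ).1 hσ
    have hzz : z * z = 1 := kleinTwist_sq e₀ i₀ i₁
    let P : Subgroup (Perm (Fin n)) := Subgroup.zpowers z ⊔ trGroup e₀
    have hP : IsPGroup 2 P := by
      refine IsPGroup.to_sup_of_normal_right' ?_ ?_ ?_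
      · rintro ⟨_, i, rfl⟩
        refine ⟨1, Subtype.ext ?_⟩
        show (z ^ i) ^ (2 ^ 1) = 1
        rw [pow_one, ← zpow_natCast, ← zpow_mul, mul_comm, zpow_mul, zpow_natCast, pow_two, hzz, one_zpow]
      · rintro ⟨σ, hσ⟩
        obtain ⟨f, rfl⟩ := mem_trGroup.1 hσ
        exact ⟨1, Subtype.ext (by rw [pow_one]; exact tr_pow_p e₀ f)⟩
      · rw [Subgroup.zpowers_le]
        refine Subgroup.mem_normalizer_iff.2 fun σ => ⟨hzn σ, fun h => ?_⟩
        have h' := hzn _ h
        have hzi : z⁻¹ = z := inv_eq_of_mul_eq_one_right hzz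
        have e3 : z * (z * σ * z⁻¹) * z⁻¹ = σ := by
          rw [hzi, show z * (z * σ * z) * z = (z * z) * σ * (z * z) by group, hzz, one_mul, mul_one]
        rwa [e3] at h'
    obtain ⟨g, hg⟩ := exists_conj_le_sylow S (hP.comap_subtype (K := alternatingGroup (Fin n)))
    refine isSimple_two (e₀.trans (g : Perm (Fin n))) ha (by omega) S ?_ ?_
    · intro x hx
      have h1 := Subgroup.mem_subgroupOf.1 hx
      rw [relabel_trGroup] at h1
      obtain ⟨σ, hσ, hσx⟩ := h1
      have hσA : σ ∈ alternatingGroup (Fin n) := by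
        have e1 : σ = (g : Perm (Fin n))⁻¹ * (x : Perm (Fin n)) * (g : Perm (Fin n)) := by
          rw [← hσx]; simp [mul_assoc]
        rw [e1]
        exact Subgroup.mul_mem _ (Subgroup.mul_mem _ (Subgroup.inv_mem _ g.2) x.2) g.2
      have h3 := hg ⟨σ, hσA⟩ (show σ ∈ P from Subgroup.mem_sup_right hσ)
      convert h3 using 1
      exact Subtype.ext hσx.symm
    · intro x hx
      rw [kleinTwist_relabel] at hx
      have hσA : z ∈ alternatingGroup (Fin n) := by
        have e1 : z = (g : Perm (Fin n))⁻¹ * (x : Perm (Fin n)) * (g : Perm (Fin n)) := by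
          rw [hx]; simp [z, mul_assoc, i₀, i₁]
        rw [e1]
        exact Subgroup.mul_mem _ (Subgroup.mul_mem _ (Subgroup.inv_mem _ g.2) x.2) g.2
      have h3 := hg ⟨z, hσA⟩ (show z ∈ P from Subgroup.mem_sup_left (Subgroup.mem_zpowers z))
      convert h3 using 1
      exact Subtype.ext hx
  · have hpa : p ≤ n / p := by rw [Nat.le_div_iff_mul_le hp.pos, ← pow_two]; exact hnp
    obtain ⟨bl⟩ : Nonempty (Fin (n / p) ≃ ZMod p ⊕ Fin (n / p - p)) :=
      ⟨Fintype.equivOfCardEq (by simp [ZMod.card]; omega)⟩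
    obtain ⟨g, hg⟩ := exists_conj_le_sylow S
      ((planeP_isPGroup e₀ bl).comap_subtype (K := alternatingGroup (Fin n)))
    refine isSimple_odd h2 hb (e₀.trans (g : Perm (Fin n))) bl S ?_
    intro x hx
    have h1 := Subgroup.mem_subgroupOf.1 hx
    rw [planeP_relabel] at h1
    obtain ⟨σ, hσ, hσx⟩ := h1
    have h3 := hg ⟨σ, planeP_le_alternating h2 e₀ bl hσ⟩ hσ
    convert h3 using 1
    exact Subtype.ext hσx.symm

end CfsgLib.AltFusion
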