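import Cfsg.Agent.Lib.AltFusion.Basic

/-!
For odd `p`, a nontrivial strongly closed subgroup of a Sylow `p`-subgroup of an alternating group is the
whole Sylow subgroup, and the normalizer of the Sylow subgroup normalizes the translations.
-/
set_option autoImplicit false

namespace CfsgLib.AltFusion

open Equiv Cfsg Cfsg.FusionSystem CfsgLib.Fusion CfsgLib.FusionQuot

variable {α : Type*} [Fintype α] [DecidableEq α] {p a r : ℕ} [Fact p.Prime]

theorem sign_eq_one_of_pow {σ : Perm α} {n : ℕ} (hn : Odd n) (h : σ ^ n = 1) : Perm.sign σ = 1 := by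
  rcases Int.units_eq_one_or (Perm.sign σ) with hs | hs
  · exact hs
  · have h2 := congrArg Perm.sign h
    rw [map_pow, hs, hn.neg_one_pow, map_one] at h2
    exact absurd h2 (by decide)

theorem odd_p (hp : p ≠ 2) : Odd p := (Fact.out : p.Prime).odd_of_ne_two hp

theorem sign_tr_odd (hp : p ≠ 2) (e : PtsP p a r ≃ α) (f : Fin a → ZMod p) :
    Perm.sign (tr e (.ofAdd f)) = 1 := sign_eq_one_of_pow (odd_p hp) (tr_pow_p e f)

theorem sign_mon_odd (hp : p ≠ 2) (e : PtsP p a r ≃ α) (σ : Perm (Fin a)) (v : Fin a → (ZMod p)ˣ) :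
    Perm.sign (mon e σ v) = Perm.sign σ * ∏ i, chi (v i) := by
  rw [sign_mon]
  rcases Int.units_eq_one_or (Perm.sign σ) with h | h
  · rw [h, one_pow]
  · rw [h, (odd_p hp).neg_one_pow]

theorem sign_mon_update {p' : ℕ} [NeZero p'] (v : Fin a → (ZMod p')ˣ) {i k : Fin a} (hik : i ≠ k)
    (hv : ∀ j, j ≠ i → j ≠ k → v j = 1) : ∏ j, chi (v j) = chi (v i) * chi (v k) := by
  refine Fintype.prod_eq_mul i k hik fun j hj => ?_
  rw [hv j hj.1 hj.2, map_one]

/-- Negation of two coordinates. -/
def negPair (p : ℕ) (i k : Fin a) : Fin a → (ZMod p)ˣ := fun j => if j = i ∨ j = k then -1 else 1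

theorem sign_negPair (hp : p ≠ 2) (e : PtsP p a r ≃ α) {i k : Fin a} (hik : i ≠ k) :
    Perm.sign (mon e 1 (negPair p i k)) = 1 := by
  rw [sign_mon_odd hp, map_one, one_mul, sign_mon_update (negPair p i k) hik fun j h1 h2 => if_neg (by tauto)]
  simp [negPair, Int.units_mul_self]

theorem two_ne_zero_zmod (hp : p ≠ 2) : (2 : ZMod p) ≠ 0 := by
  intro h
  rw [show (2 : ZMod p) = ((2 : ℕ) : ZMod p) by simp, ZMod.natCast_eq_zero_iff] at h
  exact hp ((Nat.prime_dvd_prime_iff_eq (Fact.out : p.Prime) Nat.prime_two).1 h)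

variable {e : PtsP p a r ≃ α} {S T : Subgroup (alternatingGroup α)}

theorem trIn_univ (hp : p ≠ 2) (ha : 3 ≤ a) (hr : r ≤ 1) (hS : IsPGroup p S) (hES : trA e ≤ S)
    (hT : (groupFusionSystem S).StronglyClosed T) (hne : T ≠ ⊥) (f : Fin a → ZMod p) : f ∈ trIn e T := by
  obtain ⟨g, hg, hg0⟩ := exists_trIn_ne_zero ha hr hS hES hT hne
  have h2 := two_ne_zero_zmod hp
  have hneg : ∀ {g : Fin a → ZMod p}, g ∈ trIn e T → ∀ i k, i ≠ k →
      (fun j => if j = i ∨ j = k then 2 * g j else 0) ∈ trIn e T := by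
    intro g hg i k hik
    convert trIn_sub hg (trIn_mon hES hT hg (sign_negPair hp e hik)) using 1
    funext j
    simp only [negPair, Perm.one_def, Equiv.refl_symm, Equiv.refl_apply, Pi.sub_apply]
    by_cases hc : j = i ∨ j = k <;> simp [hc, two_mul]
  have hscale : ∀ {g : Fin a → ZMod p}, g ∈ trIn e T → ∀ c : ZMod p, c • g ∈ trIn e T := by
    intro g hg c
    convert trIn_nsmul hg c.val using 1
    funext j
    simp [ZMod.natCast_zmod_val]
  obtain ⟨i, c, hc, hsing⟩ : ∃ i c, c ≠ 0 ∧ (Pi.single i c : Fin a → ZMod p) ∈ trIn e T := by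
    obtain ⟨i, hi⟩ := Function.ne_iff.1 hg0
    obtain ⟨k, hki, -⟩ := exists_third ha i i
    obtain ⟨l, hli, hlk⟩ := exists_third ha i k
    have h1 := hneg hg i k hki.symm
    by_cases hgk : g k = 0
    · refine ⟨i, 2 * g i, mul_ne_zero h2 hi, ?_⟩
      convert h1 using 1
      funext j
      rcases eq_or_ne j i with rfl | hji
      · simp
      rcases eq_or_ne j k with rfl | hjk
      · simp [hji, hgk]
      · simp [hji, hjk]
    · refine ⟨k, 2 * (2 * g k), mul_ne_zero h2 (mul_ne_zero h2 hgk), ?_⟩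
      convert hneg h1 k l hlk.symm using 1
      funext j
      rcases eq_or_ne j k with rfl | hjk
      · simp
      rcases eq_or_ne j l with rfl | hjl
      · simp [hjk, hli]
      · simp [hjk, hjl]
  have hall : ∀ j d, (Pi.single j d : Fin a → ZMod p) ∈ trIn e T := by
    intro j d
    have h1 : (Pi.single i d : Fin a → ZMod p) ∈ trIn e T := by
      have := hscale hsing (d * c⁻¹)
      rwa [← Pi.single_smul', smul_eq_mul, inv_mul_cancel_right₀ hc] at this
    rcases eq_or_ne j i with rfl | hji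
    · exact h1
    obtain ⟨k, hki, hkj⟩ := exists_third ha i j
    let σ : Perm (Fin a) := Equiv.swap i k * Equiv.swap i j
    have hσ : Perm.sign (mon e σ 1) = 1 := by
      rw [sign_mon_odd hp]
      simp [σ, Perm.sign_swap hki.symm, Perm.sign_swap hji.symm]
    have si : σ.symm j = i := by
      rw [Equiv.symm_apply_eq]
      simp [σ, Equiv.swap_apply_of_ne_of_ne hji hkj.symm]
    convert trIn_mon hES hT h1 hσ using 1
    funext l
    rcases eq_or_ne l j with rfl | hlj
    · simp [si]
    · have : σ.symm l ≠ i := fun h => hlj (by rw [← si] at h; exact σ.symm.injective h)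
      simp [hlj, this]
  have hsum : ∀ s : Finset (Fin a), ∑ j ∈ s, (Pi.single j (f j) : Fin a → ZMod p) ∈ trIn e T := by
    intro s
    induction s using Finset.induction with
    | empty => simpa using trIn_zero
    | insert j s hj ih => rw [Finset.sum_insert hj]; exact trIn_add (hall j _) ih
  have h3 := hsum Finset.univ
  rwa [Finset.univ_sum_single] at h3

theorem closed_eq_odd (hp : p ≠ 2) (ha : 3 ≤ a) (hr : r ≤ 1) (S : Sylow p (alternatingGroup α))
    (hES : trA e ≤ (S : Subgroup (alternatingGroup α)))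
    (hT : (groupFusionSystem (S : Subgroup (alternatingGroup α))).StronglyClosed T) (hne : T ≠ ⊥) :
    T = (S : Subgroup (alternatingGroup α)) := by
  have hord : ∀ y ∈ (S : Subgroup (alternatingGroup α)), y ^ p = 1 → y ∈ T := by
    intro y hy hyp
    have hy2 : (y : Perm α) ^ p = 1 := congrArg Subtype.val hyp
    obtain ⟨J, hJ⟩ := exists_card_support e hr hy2
    obtain ⟨hs, hm⟩ := trIn_univ hp ha hr S.2 hES hT hne (ind J)
    have hconj : IsConj (tr e (.ofAdd (ind J))) (y : Perm α) :=
      isConj_of_card_support (tr_pow_p e _) hy2 (by rw [card_support_tr_ind, hJ])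
    obtain ⟨g, hg⟩ := isConj_iff.1 hconj
    obtain ⟨i, k, hik, hik2⟩ : ∃ i k : Fin a, i ≠ k ∧ (i ∈ J ↔ k ∈ J) := by
      by_contra h
      push Not at h
      have i0 : Fin a := ⟨0, by omega⟩
      obtain ⟨k, hk, -⟩ := exists_third ha i0 i0
      obtain ⟨l, hl, hlk⟩ := exists_third ha i0 k
      have h1 := h i0 k hk.symm
      have h2 := h i0 l hl.symm
      have h3 := h k l hlk.symm
      tauto
    refine mem_of_isConj hT hm hy hconj (c := g * mon e (Equiv.swap i k) 1 * g⁻¹) ?_ ?_
    · rw [map_mul, map_mul, map_inv, sign_mon_odd hp, Perm.sign_swap hik]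
      simp [mul_comm]
    · rw [← hg]
      refine (Commute.conj_iff g).2 ?_
      have h := mon_conj_tr e (Equiv.swap i k) 1 (ind (p := p) J)
      rw [show (fun j => (((1 : Fin a → (ZMod p)ˣ) ((Equiv.swap i k).symm j) : (ZMod p)ˣ) : ZMod p) *
        ind (p := p) J ((Equiv.swap i k).symm j)) = ind J from funext fun j => by
          simp only [ind, Equiv.symm_swap, Pi.one_apply, Units.val_one, one_mul]
          rcases eq_or_ne j i with rfl | hji
          · simp [hik2]
          rcases eq_or_ne j k with rfl | hjk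
          · simp [hik2]
          · simp only [Equiv.swap_apply_of_ne_of_ne hji hjk], mul_inv_eq_iff_eq_mul] at h
      exact h
  refine le_antisymm hT.1 ?_
  intro x hx
  induction hn : orderOf x using Nat.strong_induction_on generalizing x with
  | _ n ih =>
  subst hn
  by_cases hxp : x ^ p = 1
  · exact hord x hx hxp
  obtain ⟨m, hm⟩ := IsPGroup.iff_orderOf.1 S.2 ⟨x, hx⟩
  rw [Subgroup.orderOf_mk] at hm
  obtain ⟨u, d, P, hP, huP, hdP, hxud, hup, hdord⟩ := exists_split (x := (x : Perm α))
    ⟨m, by rw [← hm]; exact orderOf_injective (alternatingGroup α).subtype Subtype.val_injective x⟩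
    fun h => hxp (Subtype.ext h)
  have hsign : ∀ w ∈ P, Perm.sign w = 1 := by
    intro w hw
    obtain ⟨l, hl⟩ := hP ⟨w, hw⟩
    exact sign_eq_one_of_pow (odd_p hp).pow (congrArg Subtype.val hl)
  let uA : alternatingGroup α := ⟨u, Perm.mem_alternatingGroup.2 (hsign u huP)⟩
  let dA : alternatingGroup α := ⟨d, Perm.mem_alternatingGroup.2 (hsign d hdP)⟩
  obtain ⟨g, hg⟩ := exists_conj_le_sylow S (hP.comap_subtype (K := alternatingGroup α))
  have hu' : g * uA * g⁻¹ ∈ T :=
    hord _ (hg uA (Subgroup.mem_subgroupOf.2 huP)) (by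
      rw [conj_pow, show uA ^ p = 1 from Subtype.ext hup]
      group)
  have hdo : orderOf (g * dA * g⁻¹) < orderOf x := by
    have h1 : orderOf (g * dA * g⁻¹) = orderOf dA :=
      orderOf_injective (MulAut.conj g).toMonoidHom (MulAut.conj g).injective dA
    rw [h1, ← orderOf_injective (alternatingGroup α).subtype Subtype.val_injective dA,
      ← orderOf_injective (alternatingGroup α).subtype Subtype.val_injective x]
    exact hdord
  have hd' : g * dA * g⁻¹ ∈ T := ih _ hdo (hg dA (Subgroup.mem_subgroupOf.2 hdP)) rfl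
  have hx' : x = uA * dA := Subtype.ext hxud
  have h3 : g * x * g⁻¹ ∈ T := by
    rw [hx', show g * (uA * dA) * g⁻¹ = (g * uA * g⁻¹) * (g * dA * g⁻¹) by group]
    exact T.mul_mem hu' hd'
  have h4 := conj_mem_of_stronglyClosed hT h3 (g := g⁻¹)
    (by rw [show g⁻¹ * (g * x * g⁻¹) * g⁻¹⁻¹ = x by group]; exact hx)
  rwa [show g⁻¹ * (g * x * g⁻¹) * g⁻¹⁻¹ = x by group] at h4

theorem tr_single_support (e : PtsP p a r ≃ α) (i : Fin a) :
    tr e (.ofAdd (Pi.single i 1)) = tr e (.ofAdd (ind {i})) := by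
  congr 2
  funext j
  simp [ind, Pi.single_apply]

/-- A conjugate of a translation of one block that lies in `S` is a translation of one block. -/
theorem exists_single_of_conj (hr : r < p) (hS : IsPGroup p S) (hES : trA e ≤ S) (hp : p ≠ 2)
    {g : Perm α} {i : Fin a}
    (hgS : ∃ x ∈ S, (x : Perm α) = g * tr e (.ofAdd (Pi.single i 1)) * g⁻¹) :
    ∃ j c, g * tr e (.ofAdd (Pi.single i 1)) * g⁻¹ = tr e (.ofAdd (Pi.single j c)) := by
  obtain ⟨x, hxS, hx⟩ := hgS
  have hQ : IsPGroup p (S.map (alternatingGroup α).subtype) := hS.map _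
  set w := g * tr e (.ofAdd (Pi.single i 1)) * g⁻¹ with hw
  have hwp : w ^ p = 1 := by rw [hw, conj_pow, tr_pow_p]; group
  have hcard : w.support.card = p := by
    rw [hw, Perm.card_support_conj, tr_single_support, card_support_tr_ind, Finset.card_singleton, mul_one]
  obtain ⟨j, y, hjy⟩ : ∃ j y, e (.inl ⟨j, y⟩) ∈ w.support := by
    by_contra h
    push Not at h
    have hsub : w.support ⊆ (Finset.univ : Finset (Fin r)).image fun k => e (.inr k) := by
      intro z hz
      obtain ⟨⟨j, y⟩ | k, rfl⟩ := e.surjective z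
      · exact absurd hz (h j y)
      · exact Finset.mem_image_of_mem _ (Finset.mem_univ k)
    have := (Finset.card_le_card hsub).trans Finset.card_image_le
    rw [hcard, Finset.card_univ, Fintype.card_fin] at this
    omega
  have htj : tr e (.ofAdd (Pi.single j 1)) ∈ S.map (alternatingGroup α).subtype :=
    ⟨⟨_, Perm.mem_alternatingGroup.2 (sign_tr_odd hp e _)⟩, hES (Subgroup.mem_subgroupOf.2 (tr_mem e _)), rfl⟩
  obtain ⟨m, hm⟩ := mem_zpowers_of_meet hQ (c := w) ⟨x, hxS, hx⟩ htj hwp (tr_pow_p e _) hcard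
    (by rw [tr_single_support, card_support_tr_ind, Finset.card_singleton, mul_one]) hjy
    (by simp [tr_inl])
  refine ⟨j, (m : ZMod p), ?_⟩
  rw [← hm]
  show tr e _ ^ m = _
  rw [← map_zpow, ← ofAdd_zsmul]
  congr 2
  funext l
  rcases eq_or_ne l j with rfl | hlj <;> simp [*]

end CfsgLib.AltFusion
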