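import Cfsg.Agent.Lib.AltFusion.Basic
import Cfsg.Agent.Lib.SymTwo.SylowTwo

/-!
The 2-fusion system of an alternating group of degree at least 6 is simple.
-/
set_option autoImplicit false

namespace CfsgLib.AltFusion

open Equiv Cfsg Cfsg.FusionSystem CfsgLib.Fusion CfsgLib.FusionQuot

variable {α : Type*} [Fintype α] [DecidableEq α] {a r : ℕ}

theorem tr_single_two_sign (e : PtsP 2 a r ≃ α) (i : Fin a) :
    Perm.sign (tr e (.ofAdd (Pi.single i 1))) = -1 := by
  show Perm.sign (lift e (trPerm (Pi.single i 1 : Fin a → ZMod 2))) = -1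
  rw [sign_lift, ← Perm.sign_permCongr (Equiv.sigmaEquivProd (Fin a) (ZMod 2))]
  have h : (Equiv.sigmaEquivProd (Fin a) (ZMod 2)).permCongr (trPerm (Pi.single i 1 : Fin a → ZMod 2)) =
      Equiv.prodCongrRight fun j => Equiv.addRight ((Pi.single i 1 : Fin a → ZMod 2) j) := by
    ext1 ⟨j, x⟩
    rfl
  rw [h, Perm.sign_prodCongrRight, Finset.prod_eq_single i (fun j _ hj => by
      rw [Pi.single_eq_of_ne hj, show Equiv.addRight (0 : ZMod 2) = 1 from Equiv.ext add_zero]
      exact map_one _) (by simp)]
  rw [Pi.single_eq_same]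
  decide

theorem sign_tr_two (e : PtsP 2 a r ≃ α) (f : Fin a → ZMod 2) :
    Perm.sign (tr e (.ofAdd f)) = 1 ↔ ∑ i, f i = 0 := by
  have key : ∀ c : ZMod 2, ∀ i : Fin a,
      Perm.sign (tr e (.ofAdd (Pi.single i c))) = if c = 0 then 1 else -1 := by
    intro c i
    rcases (show c = 0 ∨ c = 1 by revert c; decide) with rfl | rfl
    · rw [Pi.single_zero, ofAdd_zero, map_one, map_one, if_pos rfl]
    · rw [tr_single_two_sign]; rfl
  conv_lhs => rw [← Finset.univ_sum_single f]
  induction (Finset.univ : Finset (Fin a)) using Finset.induction with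
  | empty => simp
  | insert i s hi ih =>
    rw [Finset.sum_insert hi, Finset.sum_insert hi, ofAdd_add, map_mul, map_mul, key]
    rcases Int.units_eq_one_or (Perm.sign (tr e (.ofAdd (∑ j ∈ s, Pi.single j (f j))))) with h | h <;>
      rw [h] at ih ⊢ <;> revert ih <;> generalize f i = c <;> generalize ∑ j ∈ s, f j = d <;>
      revert c d <;> decide

/-- The swap of two blocks combined with the translations of the other blocks. -/
def kleinTwist (e : PtsP 2 a r ≃ α) (i j : Fin a) : Perm α :=
  mon e (Equiv.swap i j) 1 * tr e (.ofAdd fun k => if k = i ∨ k = j then 0 else 1)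

theorem kleinTwist_inl (e : PtsP 2 a r ≃ α) (i j k : Fin a) (x : ZMod 2) :
    kleinTwist e i j (e (.inl ⟨k, x⟩)) =
      e (.inl ⟨Equiv.swap i j k, x + if k = i ∨ k = j then 0 else 1⟩) := by
  simp [kleinTwist, tr_inl, mon_inl]

theorem kleinTwist_inr (e : PtsP 2 a r ≃ α) (i j : Fin a) (k : Fin r) :
    kleinTwist e i j (e (.inr k)) = e (.inr k) := by
  simp [kleinTwist, tr_inr, mon_inr]

theorem kleinTwist_sq (e : PtsP 2 a r ≃ α) (i j : Fin a) :
    kleinTwist e i j * kleinTwist e i j = 1 := by
  refine perm_ext e (fun k x => ?_) fun k => ?_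
  · rw [Perm.mul_apply, kleinTwist_inl, kleinTwist_inl, Equiv.swap_apply_self, Perm.one_apply,
      add_assoc]
    have h : (Equiv.swap i j k = i ∨ Equiv.swap i j k = j) ↔ (k = i ∨ k = j) := by
      rw [Equiv.swap_apply_def]; split_ifs <;> simp_all
    simp only [h]
    congr 3
    split_ifs <;> simp [show (1 : ZMod 2) + 1 = 0 by decide]
  · simp [kleinTwist_inr]

/-- Simplicity of the 2-fusion system on a Sylow subgroup containing the translations and a twist. -/
theorem isSimple_two (e : PtsP 2 a r ≃ α) (ha : 3 ≤ a) (hr : r ≤ 1)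
    (S : Sylow 2 (alternatingGroup α)) (hES : trA e ≤ (S : Subgroup (alternatingGroup α)))
    (hZ : ∀ z : alternatingGroup α,
      (z : Perm α) = kleinTwist e ⟨0, by omega⟩ ⟨1, by omega⟩ → z ∈ (S : Subgroup (alternatingGroup α))) :
    (groupFusionSystem (S : Subgroup (alternatingGroup α))).IsSimple 2 := by
  classical
  set i₀ : Fin a := ⟨0, by omega⟩
  set i₁ : Fin a := ⟨1, by omega⟩
  have h01 : i₀ ≠ i₁ := by simp [i₀, i₁, Fin.ext_iff]
  have h6 : 6 ≤ Fintype.card α := by rw [card_eq e]; omega
  have hne : (S : Subgroup (alternatingGroup α)) ≠ ⊥ := by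
    intro h
    have hm : (⟨_, Perm.mem_alternatingGroup.2 (sign_tr_pair e i₀ i₁ 1)⟩ : alternatingGroup α) ∈ trA e :=
      Subgroup.mem_subgroupOf.2 (tr_mem e _)
    have h2 := hES hm
    rw [h, Subgroup.mem_bot] at h2
    have h3 : tr e (.ofAdd (Pi.single i₀ 1 + Pi.single i₁ 1)) = 1 := congrArg Subtype.val h2
    rw [← map_one (tr e), ← ofAdd_zero] at h3
    have h4 := congrFun (Multiplicative.ofAdd.injective (tr_injective e h3)) i₀
    simp [h01] at h4
  refine isSimple_of_conjHom S hne (fun T hT => ?_) fun E _ _ g hg => ?_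
  swap
  · have hgS := CfsgLib.SymTwo.sylow_two_alt_normalizer_le h6 S hg
    exact E.conj_mem le_rfl hgS
  rcases eq_or_ne T ⊥ with hT0 | hT0
  · exact Or.inl hT0
  refine Or.inr ?_
  obtain ⟨f, hf, hf0⟩ := exists_trIn_ne_zero ha hr S.2 hES hT hT0
  -- a translation of two blocks
  obtain ⟨u, w, huw, hw2⟩ : ∃ u w, u ≠ w ∧ (Pi.single u 1 + Pi.single w 1 : Fin a → ZMod 2) ∈ trIn e T := by
    obtain ⟨i, hi⟩ := Function.ne_iff.1 hf0
    have hfi : f i = 1 := (show ∀ c : ZMod 2, c ≠ 0 → c = 1 by decide) _ hi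
    by_cases hall : ∀ j, f j = 1
    · obtain ⟨hf1, hf2⟩ := hf
      have hf' : f = fun _ => 1 := funext hall
      set z := kleinTwist e i₀ i₁ with hz
      have hzs : Perm.sign z = 1 := by
        rw [hz, kleinTwist, map_mul, sign_mon]
        have : (fun k : Fin a => if k = i₀ ∨ k = i₁ then (0 : ZMod 2) else 1) =
            f + (Pi.single i₀ 1 + Pi.single i₁ 1) := by
          funext k
          rw [hf']
          rcases eq_or_ne k i₀ with rfl | h0
          · simp [h01, show (1 : ZMod 2) + 1 = 0 by decide]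
          rcases eq_or_ne k i₁ with rfl | h1
          · simp [h01.symm, show (1 : ZMod 2) + 1 = 0 by decide]
          · simp [h0, h1]
        rw [this, ofAdd_add, map_mul, map_mul, hf1, sign_tr_pair]
        simp
      let zA : alternatingGroup α := ⟨z, Perm.mem_alternatingGroup.2 hzs⟩
      have hzS : zA ∈ (S : Subgroup (alternatingGroup α)) := hZ zA rfl
      obtain ⟨k, hk0, hk1⟩ := exists_third ha i₀ i₁
      have hsupp : (tr e (.ofAdd f)).support = z.support := by
        ext q
        obtain ⟨⟨l, x⟩ | l, rfl⟩ := e.surjective q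
        · simp only [Perm.mem_support, tr_inl, hz, kleinTwist_inl, hall]
          refine ⟨fun _ h => ?_, fun _ => by simp⟩
          have h2 := Sum.inl_injective (e.injective h)
          rcases eq_or_ne l i₀ with rfl | h0
          · rw [Equiv.swap_apply_left] at h2
            exact h01 (congrArg Sigma.fst h2).symm
          rcases eq_or_ne l i₁ with rfl | h1
          · rw [Equiv.swap_apply_right] at h2
            exact h01 (congrArg Sigma.fst h2)
          · simp [Equiv.swap_apply_of_ne_of_ne h0 h1, h0, h1] at h2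
        · simp [tr_inr, hz, kleinTwist_inr]
      have hcomm : Commute (tr e (.ofAdd (Pi.single k 1))) z := by
        refine perm_ext e (fun l x => ?_) fun l => ?_
        · simp only [Perm.mul_apply, hz, kleinTwist_inl, tr_inl]
          rcases eq_or_ne l k with rfl | hlk
          · simp [Equiv.swap_apply_of_ne_of_ne hk0 hk1, hk0, hk1, add_right_comm]
          · have : Equiv.swap i₀ i₁ l ≠ k := fun h => hlk (by
              rw [← Equiv.swap_apply_self i₀ i₁ l, h, Equiv.swap_apply_of_ne_of_ne hk0 hk1])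
            simp [hlk, this]
        · simp [hz, kleinTwist_inr, tr_inr]
      have hzT : zA ∈ T := mem_of_isConj hT hf2 hzS
        (isConj_of_card_support (p := 2) (tr_pow_p e f) (by rw [pow_two]; exact kleinTwist_sq e i₀ i₁)
          (congrArg Finset.card hsupp)) (tr_single_two_sign e k) hcomm
      set v := tr e (.ofAdd f) * z with hv
      have hvv : v ^ 2 = 1 := by
        rw [pow_two]
        refine perm_ext e (fun l x => ?_) fun l => ?_
        · simp only [hv, hz, Perm.mul_apply, kleinTwist_inl, tr_inl, hall, Perm.one_apply,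
            Equiv.swap_apply_self]
          have h : (Equiv.swap i₀ i₁ l = i₀ ∨ Equiv.swap i₀ i₁ l = i₁) ↔ (l = i₀ ∨ l = i₁) := by
            rw [Equiv.swap_apply_def]; split_ifs <;> simp_all
          simp only [h]
          congr 3
          split_ifs <;> revert x <;> simp [show ∀ c : ZMod 2, c + c = 0 by decide, show (1 : ZMod 2) + 1 = 0 by decide, add_assoc, ← two_mul, show (2 : ZMod 2) = 0 by decide]
        · simp [hv, hz, tr_inr, kleinTwist_inr]
      have hps : Perm.sign (tr e (.ofAdd (Pi.single i₀ 1 + Pi.single i₁ 1))) = 1 := sign_tr_pair e i₀ i₁ 1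
      refine ⟨i₀, i₁, h01, hps, ?_⟩
      refine mem_of_isConj hT (T.mul_mem hf2 hzT) (hES (Subgroup.mem_subgroupOf.2 (tr_mem e _))) ?_
        (tr_single_two_sign e i₀) (tr_comm e _ _)
      refine isConj_of_card_support (p := 2) hvv (tr_pow_p e _) (congrArg Finset.card ?_)
      show v.support = _
      ext q
      obtain ⟨⟨l, x⟩ | l, rfl⟩ := e.surjective q
      · simp only [Perm.mem_support, hv, hz, Perm.mul_apply, kleinTwist_inl, tr_inl, hall, ne_eq,
          EmbeddingLike.apply_eq_iff_eq, Sum.inl.injEq, Sigma.mk.injEq, heq_eq_eq]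
        rcases eq_or_ne l i₀ with rfl | h0
        · simp [h01, h01.symm]
        rcases eq_or_ne l i₁ with rfl | h1
        · simp [h01, h01.symm]
        · simp [Equiv.swap_apply_of_ne_of_ne h0 h1, h0, h1, add_assoc, show (1 : ZMod 2) + 1 = 0 by decide]
      · simp [hv, hz, tr_inr, kleinTwist_inr]
    · push Not at hall
      obtain ⟨j, hj⟩ := hall
      have hfj : f j = 0 := (show ∀ c : ZMod 2, c ≠ 1 → c = 0 by decide) _ hj
      have hij : i ≠ j := fun h => hj (h ▸ hfi)
      obtain ⟨k, hki, hkj⟩ := exists_third ha i j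
      let σ : Perm (Fin a) := Equiv.swap i k * Equiv.swap i j
      have hσ : Perm.sign (mon e σ 1) = 1 := by
        rw [sign_mon]
        simp
      have hg := trIn_add hf (trIn_mon hES hT hf hσ)
      have si : σ.symm j = i := by
        rw [Equiv.symm_apply_eq]
        simp [σ, Equiv.swap_apply_of_ne_of_ne hij.symm hkj.symm]
      have sk : σ.symm k = j := by
        rw [Equiv.symm_apply_eq]
        simp [σ]
      have sii : σ.symm i = k := by
        rw [Equiv.symm_apply_eq]
        simp [σ, Equiv.swap_apply_of_ne_of_ne hki hkj]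
      rcases (show f k = 0 ∨ f k = 1 by generalize f k = c; revert c; decide) with hfk | hfk
      · refine ⟨i, j, hij, ?_⟩
        convert hg using 1
        funext l
        simp only [Pi.add_apply, Pi.one_apply, Units.val_one, one_mul]
        rcases eq_or_ne l i with rfl | hli
        · simp [sii, hfk, hfi, hij]
        rcases eq_or_ne l j with rfl | hlj
        · simp [si, hfi, hfj, hij.symm]
        rcases eq_or_ne l k with rfl | hlk
        · simp [sk, hfk, hfj, hki, hkj]
        · have : σ.symm l = l := by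
            rw [Equiv.symm_apply_eq]
            simp [σ, Equiv.swap_apply_of_ne_of_ne hli hlj, Equiv.swap_apply_of_ne_of_ne hli hlk]
          rw [this]
          simp [hli, hlj, show ∀ c : ZMod 2, c + c = 0 by decide]
      · refine ⟨j, k, hkj.symm, ?_⟩
        convert hg using 1
        funext l
        simp only [Pi.add_apply, Pi.one_apply, Units.val_one, one_mul]
        rcases eq_or_ne l i with rfl | hli
        · simp [sii, hfk, hfi, hij, hki.symm, show (1 : ZMod 2) + 1 = 0 by decide]
        rcases eq_or_ne l j with rfl | hlj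
        · simp [si, hfi, hfj, hkj.symm]
        rcases eq_or_ne l k with rfl | hlk
        · simp [sk, hfk, hfj, hkj]
        · have : σ.symm l = l := by
            rw [Equiv.symm_apply_eq]
            simp [σ, Equiv.swap_apply_of_ne_of_ne hli hlj, Equiv.swap_apply_of_ne_of_ne hli hlk]
          rw [this]
          simp [hlj, hlk, show ∀ c : ZMod 2, c + c = 0 by decide]
  -- all translations of two blocks
  have hpair : ∀ x : Fin a, x ≠ i₀ → (Pi.single x 1 + Pi.single i₀ 1 : Fin a → ZMod 2) ∈ trIn e T := by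
    intro x hx
    refine ⟨sign_tr_pair e x i₀ 1, mem_of_isConj hT hw2.2 (hES (Subgroup.mem_subgroupOf.2 (tr_mem e _))) ?_
      (tr_single_two_sign e i₀) (tr_comm e _ _)⟩
    refine isConj_of_card_support (p := 2) (tr_pow_p e _) (tr_pow_p e _) ?_
    have hp : ∀ c d : Fin a, c ≠ d →
        (Pi.single c 1 + Pi.single d 1 : Fin a → ZMod 2) = ind ({c, d} : Finset (Fin a)) := by
      intro c d hcd
      funext l
      rcases eq_or_ne l c with rfl | hlc
      · simp [ind, hcd]
      rcases eq_or_ne l d with rfl | hld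
      · simp [ind, hcd.symm]
      · simp [ind, hlc, hld]
    show (tr e _).support.card = (tr e _).support.card
    rw [hp u w huw, hp x i₀ hx, card_support_tr_ind, card_support_tr_ind,
      Finset.card_pair huw, Finset.card_pair hx]
  have hfull : ∀ g : Fin a → ZMod 2, ∑ k, g k = 0 → g ∈ trIn e T := by
    intro g hg
    have h1 : ∀ s : Finset (Fin a), (∑ k ∈ s, Pi.single k (g k)) +
        Pi.single i₀ (∑ k ∈ s, g k) ∈ trIn e T := by
      intro s
      induction s using Finset.induction with
      | empty => simpa using trIn_zero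
      | insert k s hk ih =>
        rw [Finset.sum_insert hk, Finset.sum_insert hk, Pi.single_add,
          show ∀ A B C D : Fin a → ZMod 2, A + B + (C + D) = (A + C) + (B + D) from fun A B C D => by abel]
        refine trIn_add ?_ ih
        rcases (show g k = 0 ∨ g k = 1 by generalize g k = c; revert c; decide) with hc | hc
        · rw [hc, Pi.single_zero, Pi.single_zero, add_zero]; exact trIn_zero
        rw [hc]
        rcases eq_or_ne k i₀ with rfl | hk0
        · rw [← Pi.single_add, show (1 : ZMod 2) + 1 = 0 by decide, Pi.single_zero]; exact trIn_zero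
        · exact hpair k hk0
    have h2 := h1 Finset.univ
    rwa [Finset.univ_sum_single, hg, Pi.single_zero, add_zero] at h2
  -- all involutions, hence everything
  have hinv : ∀ y ∈ (S : Subgroup (alternatingGroup α)), y * y = 1 → y ∈ T := by
    intro y hy hyy
    have hy2 : (y : Perm α) ^ 2 = 1 := by rw [pow_two]; exact congrArg Subtype.val hyy
    obtain ⟨J, hJ⟩ := exists_card_support e hr hy2
    have hsum : ∑ k, ind (a := a) (p := 2) J k = 0 := by
      have h1 := Perm.mem_alternatingGroup.1 y.2
      rw [Perm.sign_of_cycleType, Perm.cycleType_of_pow_prime_eq_one hy2] at h1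
      have h2 := Perm.sum_cycleType (y : Perm α)
      rw [Perm.cycleType_of_pow_prime_eq_one hy2, Multiset.sum_replicate, smul_eq_mul, hJ] at h2
      rw [Multiset.card_replicate, Multiset.sum_replicate, smul_eq_mul,
        show ∀ n, n * 2 + n = 3 * n from fun n => by omega,
        show Multiset.card (y : Perm α).cycleType = J.card by omega, pow_mul,
        show ((-1 : ℤˣ) ^ 3) = -1 by decide, neg_one_pow_eq_one_iff_even (by decide)] at h1
      simp only [ind, Finset.sum_boole, Finset.filter_univ_mem, ZMod.natCast_eq_zero_iff_even]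
      exact h1
    obtain ⟨hs, hm⟩ := hfull _ hsum
    have hconj : IsConj (tr e (.ofAdd (ind J))) (y : Perm α) :=
      isConj_of_card_support (p := 2) (tr_pow_p e _) hy2 (by rw [card_support_tr_ind, hJ])
    obtain ⟨g, hg⟩ := isConj_iff.1 hconj
    refine mem_of_isConj hT hm hy hconj (c := g * tr e (.ofAdd (Pi.single i₀ 1)) * g⁻¹) ?_ ?_
    · rw [map_mul, map_mul, map_inv, tr_single_two_sign, mul_comm (Perm.sign g) (-1), mul_inv_cancel_right]
    · rw [← hg]
      exact (Commute.conj_iff g).2 (tr_comm e _ _)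
  refine le_antisymm hT.1 fun x hx => ?_
  by_cases hx1 : x = 1
  · exact hx1 ▸ T.one_mem
  obtain ⟨m, hm⟩ := IsPGroup.iff_orderOf.1 S.2 ⟨x, hx⟩
  rw [Subgroup.orderOf_mk, ← orderOf_injective (alternatingGroup α).subtype Subtype.val_injective x] at hm
  obtain ⟨b, hb1, hb2, hb3⟩ := exists_even_inverter (x := (x : Perm α)) ⟨m, hm⟩
    fun h => hx1 (Subtype.ext h)
  let bA : alternatingGroup α := ⟨b, Perm.mem_alternatingGroup.2 hb1⟩
  have hbA : bA * bA = 1 := Subtype.ext hb2
  have hbx : bA * x * bA⁻¹ = x⁻¹ := Subtype.ext hb3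
  have hP : IsPGroup 2 (Subgroup.zpowers bA ⊔ Subgroup.zpowers x : Subgroup (alternatingGroup α)) := by
    refine IsPGroup.to_sup_of_normal_right' ?_ (S.2.to_le (Subgroup.zpowers_le.2 hx)) ?_
    · rintro ⟨_, i, rfl⟩
      refine ⟨1, Subtype.ext ?_⟩
      show (bA ^ i) ^ (2 ^ 1) = 1
      rw [pow_one, ← zpow_natCast, ← zpow_mul, mul_comm, zpow_mul, zpow_natCast, pow_two, hbA, one_zpow]
    · rw [Subgroup.zpowers_le, Subgroup.mem_normalizer_iff]
      have key : ∀ q ∈ Subgroup.zpowers x, bA * q * bA⁻¹ ∈ Subgroup.zpowers x := by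
        rintro _ ⟨i, rfl⟩
        show bA * x ^ i * bA⁻¹ ∈ _
        rw [← conj_zpow, hbx]
        exact Subgroup.zpow_mem _ (Subgroup.inv_mem _ (Subgroup.mem_zpowers x)) i
      refine fun q => ⟨key q, fun hq => ?_⟩
      have h1 := key _ hq
      have hbi : bA⁻¹ = bA := inv_eq_of_mul_eq_one_right hbA
      have : bA * (bA * q * bA⁻¹) * bA⁻¹ = q := by rw [hbi]; simp [mul_assoc, hbA, ← mul_assoc bA bA]
      rwa [this] at h1
  obtain ⟨g, hg⟩ := exists_conj_le_sylow S hP
  have h1 : g * bA * g⁻¹ ∈ T := hinv _ (hg _ (Subgroup.mem_sup_left (Subgroup.mem_zpowers bA))) (by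
    rw [show g * bA * g⁻¹ * (g * bA * g⁻¹) = g * (bA * bA) * g⁻¹ by group, hbA]; group)
  have hbxx : (bA * x) * (bA * x) = 1 := by
    rw [show bA * x * (bA * x) = (bA * x * bA⁻¹) * (bA * bA) * x by group, hbx, hbA]
    group
  have h2 : g * (bA * x) * g⁻¹ ∈ T := hinv _ (hg _ (Subgroup.mul_mem _
      (Subgroup.mem_sup_left (Subgroup.mem_zpowers bA)) (Subgroup.mem_sup_right (Subgroup.mem_zpowers x)))) (by
    rw [show g * (bA * x) * g⁻¹ * (g * (bA * x) * g⁻¹) = g * ((bA * x) * (bA * x)) * g⁻¹ by group, hbxx]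
    group)
  have h3 : g * x * g⁻¹ ∈ T := by
    have := T.mul_mem (T.inv_mem h1) h2
    rwa [show (g * bA * g⁻¹)⁻¹ * (g * (bA * x) * g⁻¹) = g * x * g⁻¹ by group] at this
  have h4 := conj_mem_of_stronglyClosed hT h3 (g := g⁻¹)
    (by rw [show g⁻¹ * (g * x * g⁻¹) * g⁻¹⁻¹ = x by group]; exact hx)
  rwa [show g⁻¹ * (g * x * g⁻¹) * g⁻¹⁻¹ = x by group] at h4

end CfsgLib.AltFusion
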